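import Cfsg.Agent.H378.Regular
import Cfsg.Agent.S1092
import Cfsg.Agent.S1093

/-!
# Fusion of semisimple elements is controlled by the Weyl group (helper872)

* `weyl_pow` : `x` in a Chevalley group `D.group F` of prime order `ℓ ∤ |F|`, `g x g⁻¹ = x ^ k`: then
  `k ^ |W| ≡ 1 (mod ℓ)`;
* `Small D` : the same with a `{2,3,5,7}`-number instead of `|W|`; `small_G2`, ..., `small_E8`, `small_D4`.
-/

set_option autoImplicit false
set_option linter.unusedSectionVars false

namespace Cfsg.Agent.H872.AutWeyl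

open CoxeterSystem Subgroup Cfsg Cfsg.Lie Cfsg.Lie.ChevalleyDatum
open Cfsg.Agent.ChevalleyStructure Cfsg.Agent.ChevalleyStructure.Elts Cfsg.Agent.ChevalleyStructure.CoxeterGeom
  Cfsg.Agent.ChevalleyStructure.CoxeterGeomTypes Cfsg.Agent.ChevalleyStructure.NPerm
open Cfsg.Agent.Tits.Roots Cfsg.Agent.Tits.Core Cfsg.Agent.Nodes.Reps Cfsg.Agent.Nodes.BNOf
  Cfsg.Agent.Nodes.RGDChev Cfsg.Agent.Nodes.Bruhat
open Cfsg.Agent.KFacts.RgdField Cfsg.Agent.KFacts.RgdChevCoord Cfsg.Agent.BpExc.TorCent Cfsg.Agent.BpExc.TorChev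
open Cfsg.Agent.BpExc.Tow Cfsg.Agent.BpExc.TowChev Cfsg.Agent.BpExc.FamExt Cfsg.Agent.BpExc.FamUntw
  Cfsg.Agent.BpExc.FamInst Cfsg.Agent.BpExc.LangFr Cfsg.Agent.BpExc.FamField
open Cfsg.Agent.GpExc.Field (glMap emb coe_emb glMap_xG emb_injective coe_glMap)
open Cfsg.Agent.H378.TorDual Cfsg.Agent.H378.TorChar Cfsg.Agent.H378.TorFin Cfsg.Agent.H378.LatRoot

universe u v

variable {D : ChevalleyDatum} {l : ℕ} {M : CoxeterMatrix (Fin l)} (hp : IsType D l M)
  {W : Type*} [Group W] (cs : CoxeterSystem M W)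

theorem rp_pow {k : Type u} [Field k] {n : Fin l → ↥(D.group k)} {T : Subgroup ↥(D.group k)} {hN : NSys M T n} {w : W}
    {g : ↥(D.group k)} (h : Rp cs hN w g) (m : ℕ) : Rp cs hN (w ^ m) (g ^ m) := by
  induction m with
  | zero => simpa using (rp_one : Rp cs hN 1 1)
  | succ m ih => rw [pow_succ, pow_succ]; exact ih.mul h

include hp cs in
/-- **Fusion of elements of prime order is controlled by the Weyl group.** -/
theorem weyl_pow [Finite W] {F : Type u} [Field F] [Finite F] {x g : ↥(D.group F)} {ℓ k : ℕ} (hℓ : ℓ.Prime)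
    (hℓF : ¬ ℓ ∣ Nat.card F) (hx : orderOf x = ℓ) (h : g * x * g⁻¹ = x ^ k) : k ^ Nat.card W ≡ 1 [MOD ℓ] := by
  obtain ⟨K, _, _, f, r, _, _, n, hk, hka, hn0, hn⟩ := exists_closure F
  have hℓr : ℓ ≠ r := by
    rintro rfl
    apply hℓF
    rw [hn]
    exact dvd_pow_self _ hn0.ne'
  have hemb := emb_injective hp.inList f
  set y := emb hp.inList f x with hy
  set c := emb hp.inList f g with hc
  have hyo : orderOf y = ℓ := by rw [← hx]; exact orderOf_injective _ hemb x
  have hyc : c * y * c⁻¹ = y ^ k := by rw [hy, hc, ← map_mul, ← map_inv, ← map_mul, h, map_pow]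
  obtain ⟨z, hz⟩ := BpExc.TorAll.exists_toral hp r hka hℓ hℓr (y := y) (by rw [← hyo, pow_orderOf_eq_one])
  set t := z⁻¹ * y * z with ht
  have hto : orderOf t = ℓ := by
    rw [← hyo, ht]
    have h1 : z⁻¹ * y * z = MulAut.conj z⁻¹ y := by simp
    rw [h1]
    exact orderOf_injective (MulAut.conj z⁻¹).toMonoidHom (MulAut.conj z⁻¹).injective y
  have h1 : (z⁻¹ * c * z) * t = t ^ k * (z⁻¹ * c * z) := by
    have h2 : t ^ k = z⁻¹ * y ^ k * z := by
      have := conj_pow (a := z⁻¹) (b := y) (i := k)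
      rw [inv_inv] at this
      exact this
    rw [h2, ht, ← hyc]
    group
  obtain ⟨m, hm, w, g', hg', hgs, -⟩ := H378.Regular.exists_form' hp cs hk r hz (Subgroup.pow_mem _ hz k) h1
  have hpow : ∀ j : ℕ, g' ^ j * t = t ^ (k ^ j) * g' ^ j := by
    intro j
    induction j with
    | zero => simp
    | succ j ih =>
      have h3 : ∀ i : ℕ, g' * t ^ i = t ^ (k * i) * g' := by
        intro i
        induction i with
        | zero => simp
        | succ i ihi =>
          rw [pow_succ, ← mul_assoc, ihi, mul_assoc, hgs, ← mul_assoc, ← pow_add, mul_add, mul_one]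
      rw [pow_succ' g', mul_assoc, ih, ← mul_assoc, h3, mul_assoc, ← pow_succ', pow_succ' k]
  have hone : g' ^ Nat.card W ∈ TT D K := by
    have h3 := rp_pow cs hg' (Nat.card W)
    rw [pow_card_eq_one'] at h3
    exact h3.mem_of_one
  have h3 := hpow (Nat.card W)
  have h4 : g' ^ Nat.card W * t = t * g' ^ Nat.card W := TT_comm hp _ hone t hz
  rw [h4] at h3
  have h5 : t ^ 1 = t ^ (k ^ Nat.card W) := by rw [pow_one]; exact mul_right_cancel h3
  have h6 := (pow_eq_pow_iff_modEq).1 h5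
  rw [hto] at h6
  exact h6.symm

/-- fusion of semisimple elements is controlled by a group of order prime to `n` -/
def Small (D : ChevalleyDatum) : Prop := ∃ w : ℕ, (∀ n : ℕ, n.Prime → 11 ≤ n → ¬ n ∣ w) ∧
  ∀ (F : Type u) (_ : Field F) (_ : Finite F) (x g : ↥(D.group F)) (ℓ k : ℕ), ℓ.Prime → ¬ ℓ ∣ Nat.card F →
    orderOf x = ℓ → g * x * g⁻¹ = x ^ k → k ^ w ≡ 1 [MOD ℓ]

theorem small_of {w : ℕ} (hp : IsType D l M) (hw : Nat.card M.Group = w) (h0 : w ≠ 0)
    (h : ∀ n : ℕ, n.Prime → 11 ≤ n → ¬ n ∣ w) : Small.{u} D := by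
  have : Finite M.Group := Nat.finite_of_card_ne_zero (by rw [hw]; exact h0)
  refine ⟨w, h, fun F _ _ x g ℓ k h1 h2 h3 h4 => ?_⟩
  have := weyl_pow hp M.toCoxeterSystem h1 h2 h3 h4
  rwa [hw] at this

theorem not_dvd_of_210 {w m : ℕ} (h : w ∣ 210 ^ m) : ∀ n : ℕ, n.Prime → 11 ≤ n → ¬ n ∣ w := by
  intro n hn hn11 hd
  have h1 : n ∣ 210 := hn.dvd_of_dvd_pow (hd.trans h)
  have h2 : n ≤ 210 := Nat.le_of_dvd (by norm_num) h1
  have h3 : (210 : ℕ) = 2 * 3 * 5 * 7 := by norm_num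
  rw [h3, hn.dvd_mul, hn.dvd_mul, hn.dvd_mul] at h1
  rcases h1 with ((h1 | h1) | h1) | h1
  · exact absurd (Nat.le_of_dvd (by norm_num) h1) (by omega)
  · exact absurd (Nat.le_of_dvd (by norm_num) h1) (by omega)
  · exact absurd (Nat.le_of_dvd (by norm_num) h1) (by omega)
  · exact absurd (Nat.le_of_dvd (by norm_num) h1) (by omega)

theorem small_G2 : Small.{u} chevG2 :=
  small_of (M := CoxeterMatrix.G₂) (w := 12) (by simp)
    (S1092.result (⟨2, CoxeterMatrix.G₂⟩, 12) (by simp)) (by norm_num) (not_dvd_of_210 (m := 2) (by norm_num))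

theorem small_F4 : Small.{u} chevF4 :=
  small_of (M := CoxeterMatrix.F₄) (w := 1152) (by simp)
    (S1092.result (⟨4, CoxeterMatrix.F₄⟩, 1152) (by simp)) (by norm_num) (not_dvd_of_210 (m := 7) (by norm_num))

theorem small_D4 : Small.{u} chevD4 :=
  small_of (M := coxeterD4) (w := 192) (by simp [IsType, typeList])
    (S1092.result (⟨4, coxeterD4⟩, 192) (by simp)) (by norm_num) (not_dvd_of_210 (m := 6) (by norm_num))

theorem small_E6 : Small.{u} chevE6 :=
  small_of (M := CoxeterMatrix.E₆) (w := 51840) (by simp)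
    (S1093.result (⟨6, CoxeterMatrix.E₆⟩, 51840) (by simp)) (by norm_num) (not_dvd_of_210 (m := 7) (by norm_num))

theorem small_E7 : Small.{u} chevE7 :=
  small_of (M := CoxeterMatrix.E₇) (w := 2903040) (by simp)
    (S1093.result (⟨7, CoxeterMatrix.E₇⟩, 2903040) (by simp)) (by norm_num) (not_dvd_of_210 (m := 10) (by norm_num))

theorem small_E8 : Small.{u} chevE8 :=
  small_of (M := CoxeterMatrix.E₈) (w := 696729600) (by simp)
    (S1093.result (⟨8, CoxeterMatrix.E₈⟩, 696729600) (by simp)) (by norm_num)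
    (not_dvd_of_210 (m := 14) (by norm_num))

end Cfsg.Agent.H872.AutWeyl
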