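import Cfsg.Agent.H872.Kron

/-!
The fixed space of `A ⊗ B` has codimension at least `|β|` when `A` is not scalar; hence, when
`|α| < |β|`, a conjugate of a root element `1 ⊗ (1 + w ψ)` which is a Kronecker product is a root
element.
-/

set_option autoImplicit false
set_option linter.unusedSectionVars false

namespace Cfsg.Agent.H872

open Matrix Cfsg.Agent.H873
open scoped Kronecker

variable {α β : Type} [Fintype α] [DecidableEq α] [Fintype β] [DecidableEq β] {F : Type*} [Field F]

/-- A matrix is scalar if every vector is an eigenvector (in dual form). -/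
theorem exists_scalar_of_dual {Y : Matrix α α F}
    (h : ∀ u φ : α → F, φ ⬝ᵥ u = 0 → φ ⬝ᵥ (Y *ᵥ u) = 0) : ∃ c : F, Y = c • (1 : Matrix α α F) := by
  have h1 : ∀ i j, i ≠ j → Y i j = 0 := by
    intro i j hij
    have h2 := h (Pi.single j 1) (Pi.single i 1) (by simp [hij.symm])
    simpa using h2
  have h3 : ∀ i j, Y i i = Y j j := by
    intro i j
    by_cases hij : i = j
    · rw [hij]
    · have h2 := h (Pi.single i 1 + Pi.single j 1) (Pi.single i 1 - Pi.single j 1)
        (by simp [hij, Ne.symm hij])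
      rw [mulVec_add, dotProduct_add, sub_dotProduct, sub_dotProduct] at h2
      simp only [mulVec_single_one, single_one_dotProduct, col_apply] at h2
      rw [h1 i j hij, h1 j i (Ne.symm hij)] at h2
      linear_combination h2
  rcases isEmpty_or_nonempty α with hα | ⟨⟨i0⟩⟩
  · exact ⟨0, by ext i; exact isEmptyElim i⟩
  · refine ⟨Y i0 i0, ?_⟩
    ext i j
    by_cases hij : i = j
    · subst hij
      simp [h3 i i0]
    · simp [h1 i j hij, hij]

/-- The subspace of vectors fixed by `g`. -/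
def fixS {ι : Type} [Fintype ι] [DecidableEq ι] (g : GL ι F) : Submodule F (ι → F) :=
  LinearMap.ker (Matrix.toLin' ((g : Matrix ι ι F) - 1))

theorem mem_fixS {ι : Type} [Fintype ι] [DecidableEq ι] {g : GL ι F} {v : ι → F} :
    v ∈ fixS g ↔ (g : Matrix ι ι F) *ᵥ v = v := by
  rw [fixS, LinearMap.mem_ker, Matrix.toLin'_apply, sub_mulVec, one_mulVec, sub_eq_zero]

theorem inv_mulVec_mulVec {ι : Type} [Fintype ι] [DecidableEq ι] (g : GL ι F) (x : ι → F) :
    ((g⁻¹ : GL ι F) : Matrix ι ι F) *ᵥ ((g : Matrix ι ι F) *ᵥ x) = x := by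
  rw [mulVec_mulVec, ← Units.val_mul, inv_mul_cancel, Units.val_one, one_mulVec]

theorem mulVec_inv_mulVec {ι : Type} [Fintype ι] [DecidableEq ι] (g : GL ι F) (x : ι → F) :
    (g : Matrix ι ι F) *ᵥ (((g⁻¹ : GL ι F) : Matrix ι ι F) *ᵥ x) = x := by
  rw [mulVec_mulVec, ← Units.val_mul, mul_inv_cancel, Units.val_one, one_mulVec]

/-- `g` as a linear equivalence. -/
def glEquiv {ι : Type} [Fintype ι] [DecidableEq ι] (g : GL ι F) : (ι → F) ≃ₗ[F] (ι → F) :=
  LinearEquiv.ofLinearMap (Matrix.toLin' (g : Matrix ι ι F))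
    (Matrix.toLin' ((g⁻¹ : GL ι F) : Matrix ι ι F))
    (LinearMap.ext fun x => by
      rw [LinearMap.comp_apply, Matrix.toLin'_apply, Matrix.toLin'_apply, mulVec_inv_mulVec]; rfl)
    (LinearMap.ext fun x => by
      rw [LinearMap.comp_apply, Matrix.toLin'_apply, Matrix.toLin'_apply, inv_mulVec_mulVec]; rfl)

theorem glEquiv_apply {ι : Type} [Fintype ι] [DecidableEq ι] (g : GL ι F) (x : ι → F) :
    glEquiv g x = (g : Matrix ι ι F) *ᵥ x := Matrix.toLin'_apply _ _

theorem fixS_conj {ι : Type} [Fintype ι] [DecidableEq ι] (g x : GL ι F) :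
    fixS (g * x * g⁻¹) = (fixS x).map (glEquiv g).toLinearMap := by
  ext v
  rw [mem_fixS, Submodule.mem_map]
  constructor
  · intro h
    refine ⟨((g⁻¹ : GL ι F) : Matrix ι ι F) *ᵥ v, ?_, ?_⟩
    · rw [mem_fixS]
      conv_rhs => rw [← h]
      rw [Units.val_mul, Units.val_mul, ← mulVec_mulVec, ← mulVec_mulVec, inv_mulVec_mulVec]
    · change glEquiv g _ = v
      rw [glEquiv_apply, mulVec_inv_mulVec]
  · rintro ⟨w, hw, rfl⟩
    rw [mem_fixS] at hw
    change _ = glEquiv g w
    change (((g * x * g⁻¹ : GL ι F)) : Matrix ι ι F) *ᵥ (glEquiv g w) = _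
    rw [glEquiv_apply, Units.val_mul, Units.val_mul, ← mulVec_mulVec, ← mulVec_mulVec,
      inv_mulVec_mulVec, hw]

theorem finrank_fixS_conj {ι : Type} [Fintype ι] [DecidableEq ι] (g x : GL ι F) :
    Module.finrank F (fixS (g * x * g⁻¹)) = Module.finrank F (fixS x) := by
  rw [fixS_conj]
  exact LinearEquiv.finrank_map_eq (glEquiv g) _

theorem finrank_fixS_le {A : GL α F} {B : GL β F}
    (hA : ¬ ∃ c : F, (A : Matrix α α F) = c • (1 : Matrix α α F)) :
    Module.finrank F (fixS (kr (A, B))) + Fintype.card β ≤ Fintype.card α * Fintype.card β := by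
  have h1 : ∃ u φ : α → F, φ ⬝ᵥ u = 0 ∧ φ ⬝ᵥ ((A : Matrix α α F) *ᵥ u) ≠ 0 := by
    by_contra hcon
    push Not at hcon
    exact hA (exists_scalar_of_dual hcon)
  obtain ⟨u0, φ, hφ0, hφ1⟩ := h1
  set c := φ ⬝ᵥ ((A : Matrix α α F) *ᵥ u0) with hc
  set d := φ ⬝ᵥ ((A : Matrix α α F) *ᵥ ((A : Matrix α α F) *ᵥ u0)) with hd
  let u1 : α → F := c⁻¹ • (((A : Matrix α α F) *ᵥ u0) - (d / c) • u0)
  have hu1 : φ ⬝ᵥ u1 = 1 := by
    simp only [u1]
    rw [dotProduct_smul, dotProduct_sub, dotProduct_smul, hφ0, ← hc]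
    simp [hφ1]
  have hu2 : (φ ᵥ* (A : Matrix α α F)) ⬝ᵥ u1 = 0 := by
    simp only [u1]
    rw [← dotProduct_mulVec, mulVec_smul, dotProduct_smul, mulVec_sub, dotProduct_sub, mulVec_smul,
      dotProduct_smul, ← hc, ← hd]
    simp [hφ1]
  let ρ : (α × β → F) →ₗ[F] (β → F) :=
    lc φ - Matrix.toLin' (B : Matrix β β F) ∘ₗ lc (φ ᵥ* (A : Matrix α α F))
  have hρ : ∀ v, ρ v = lc φ v - (B : Matrix β β F) *ᵥ lc (φ ᵥ* (A : Matrix α α F)) v := fun v => by
    simp only [ρ, LinearMap.sub_apply, LinearMap.comp_apply, Matrix.toLin'_apply]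
  have hsurj : LinearMap.range ρ = ⊤ := by
    rw [LinearMap.range_eq_top]
    intro w
    refine ⟨ten u1 w, ?_⟩
    rw [hρ, lc_ten, lc_ten, hu1, hu2, one_smul, zero_smul, mulVec_zero, sub_zero]
  have hle : fixS (kr (A, B)) ≤ LinearMap.ker ρ := by
    intro v hv
    rw [mem_fixS, coe_kr] at hv
    rw [LinearMap.mem_ker, hρ, ← lc_kron, hv, sub_self]
  have h2 := LinearMap.finrank_range_add_finrank_ker ρ
  rw [hsurj, finrank_top, Module.finrank_fintype_fun_eq_card, Module.finrank_fintype_fun_eq_card,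
    Fintype.card_prod] at h2
  have h3 := Submodule.finrank_mono hle
  omega

theorem finrank_fixS_rt [Nonempty α] {w ψ : β → F} (h : ψ ⬝ᵥ w = 0) (hw : w ≠ 0) (hψ : ψ ≠ 0) :
    Module.finrank F (fixS (rt w ψ h : GL (α × β) F)) + Fintype.card α =
      Fintype.card α * Fintype.card β := by
  have h1 : fixS (rt w ψ h : GL (α × β) F) = LinearMap.ker (rc (α := α) ψ) := by
    ext v
    rw [mem_fixS, rt_mulVec, LinearMap.mem_ker]
    constructor
    · intro h2
      have h3 : ten (rc ψ v) w = 0 := by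
        have := h2
        rwa [add_eq_left] at this
      exact ten_left_injective hw (h3.trans (ten_zero_left w).symm)
    · intro h2
      rw [h2, ten_zero_left, add_zero]
  obtain ⟨y, hy⟩ : ∃ y, ψ ⬝ᵥ y = 1 := by
    obtain ⟨j, hj⟩ : ∃ j, ψ j ≠ 0 := by
      by_contra hcon
      push Not at hcon
      exact hψ (funext hcon)
    exact ⟨(ψ j)⁻¹ • Pi.single j 1, by rw [dotProduct_smul]; simp [hj]⟩
  have hsurj : LinearMap.range (rc (α := α) ψ) = ⊤ := by
    rw [LinearMap.range_eq_top]
    intro u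
    exact ⟨ten u y, by rw [rc_ten, hy, one_smul]⟩
  have h2 := LinearMap.finrank_range_add_finrank_ker (rc (α := α) ψ)
  rw [hsurj, finrank_top, Module.finrank_fintype_fun_eq_card, Module.finrank_fintype_fun_eq_card,
    Fintype.card_prod] at h2
  rw [h1]
  omega

theorem finrank_fixS_one_kr (B : GL β F) :
    Module.finrank F (fixS (kr ((1 : GL α F), B))) =
      Fintype.card α * Module.finrank F (fixS B) := by
  have h : ∀ (v : α × β → F), (kr ((1 : GL α F), B) : Matrix (α × β) (α × β) F) *ᵥ v = v ↔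
      ∀ i, (B : Matrix β β F) *ᵥ (fun j => v (i, j)) = fun j => v (i, j) := by
    intro v
    have h1 : ∀ i, (fun j => ((kr ((1 : GL α F), B) : Matrix (α × β) (α × β) F) *ᵥ v) (i, j)) =
        (B : Matrix β β F) *ᵥ (fun j => v (i, j)) := by
      intro i
      have h2 := lc_kron (Pi.single i 1) (1 : Matrix α α F) (B : Matrix β β F) v
      rw [vecMul_one] at h2
      have h3 : ∀ x : α × β → F, lc (Pi.single i 1) x = fun j => x (i, j) := by
        intro x
        funext j
        simp [lc_apply, Pi.single_apply]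
      rw [h3, h3] at h2
      exact h2
    constructor
    · intro h2 i
      rw [← h1, h2]
    · intro h2
      funext p
      have := congrFun ((h1 p.1).trans (h2 p.1)) p.2
      exact this
  let e : fixS (kr ((1 : GL α F), B)) ≃ₗ[F] (α → fixS B) :=
    { toFun := fun v i => ⟨fun j => v.1 (i, j), mem_fixS.2 ((h v.1).1 (mem_fixS.1 v.2) i)⟩
      map_add' := fun x y => rfl
      map_smul' := fun c x => rfl
      invFun := fun f => ⟨fun p => (f p.1).1 p.2, mem_fixS.2 ((h _).2 fun i => mem_fixS.1 (f i).2)⟩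
      left_inv := fun x => rfl
      right_inv := fun x => rfl }
  rw [e.finrank_eq, Module.finrank_pi_fintype]
  simp

/-- A matrix with kernel of codimension at most one has rank at most one. -/
theorem exists_vecMulVec_of_finrank_ker {N : Matrix β β F}
    (h : Fintype.card β ≤ Module.finrank F (LinearMap.ker (Matrix.toLin' N)) + 1) :
    ∃ w ψ : β → F, N = vecMulVec w ψ := by
  have h2 := LinearMap.finrank_range_add_finrank_ker (Matrix.toLin' N)
  rw [Module.finrank_fintype_fun_eq_card] at h2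
  have h3 : Module.finrank F (LinearMap.range (Matrix.toLin' N)) ≤ 1 := by omega
  obtain ⟨v, hv⟩ := finrank_le_one_iff.1 h3
  choose f hf using hv
  let y : β → LinearMap.range (Matrix.toLin' N) := fun j =>
    ⟨N *ᵥ Pi.single j 1, ⟨Pi.single j 1, Matrix.toLin'_apply _ _⟩⟩
  refine ⟨v.1, fun j => f (y j), ?_⟩
  ext i j
  have h5 : f (y j) * v.1 i = (N *ᵥ Pi.single j 1) i := congrFun (congrArg Subtype.val (hf (y j))) i
  rw [mulVec_single_one, col_apply] at h5
  rw [vecMulVec_apply, ← h5, mul_comm]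

/-- A conjugate of a root element which is a Kronecker product is a root element. -/
theorem rt_of_conj [Nonempty α] (hab : Fintype.card α < Fintype.card β) {w ψ : β → F}
    (h : ψ ⬝ᵥ w = 0) (hw : w ≠ 0) (hψ : ψ ≠ 0) {g : GL (α × β) F} {A : GL α F} {B : GL β F}
    (hg : g * rt w ψ h * g⁻¹ = kr (A, B)) :
    ∃ (w' ψ' : β → F) (h' : ψ' ⬝ᵥ w' = 0), w' ≠ 0 ∧ ψ' ≠ 0 ∧ g * rt w ψ h * g⁻¹ = rt w' ψ' h' := by
  have hα : 0 < Fintype.card α := Fintype.card_pos
  have h1 := finrank_fixS_conj g (rt w ψ h)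
  have h2 := finrank_fixS_rt (α := α) h hw hψ
  by_cases hA : ∃ c : F, (A : Matrix α α F) = c • (1 : Matrix α α F)
  · obtain ⟨c, hc⟩ := hA
    have hc0 : c ≠ 0 := by
      rintro rfl
      obtain ⟨i⟩ := ‹Nonempty α›
      have h3 : ((A : Matrix α α F) * ((A⁻¹ : GL α F) : Matrix α α F)) i i = 1 := by
        rw [← Units.val_mul, mul_inv_cancel]; simp
      rw [hc] at h3
      simp at h3
    let B' : GL β F := Units.mk0 c hc0 • B
    have hB' : (B' : Matrix β β F) = c • (B : Matrix β β F) := rfl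
    have hkr : kr (A, B) = kr ((1 : GL α F), B') := by
      apply Units.ext
      rw [coe_kr, coe_kr, hB', hc, Units.val_one, smul_kronecker, kronecker_smul]
    rw [hkr] at hg
    have h3 := finrank_fixS_one_kr (α := α) B'
    rw [← hg, h1] at h3
    have h4 : Fintype.card β ≤ Module.finrank F (fixS B') + 1 := by
      have h5 : Fintype.card α * (Module.finrank F (fixS B') + 1) =
          Fintype.card α * Fintype.card β := by
        rw [mul_add, mul_one, ← h3, h2]
      exact (Nat.eq_of_mul_eq_mul_left hα h5).ge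
    obtain ⟨w', ψ', hwψ⟩ := exists_vecMulVec_of_finrank_ker h4
    have hB1 : (B' : Matrix β β F) = 1 + vecMulVec w' ψ' := by rw [← hwψ]; abel
    -- square zero
    have hsq : ((g * rt w ψ h * g⁻¹ : GL (α × β) F) : Matrix (α × β) (α × β) F) - 1 =
        (g : Matrix (α × β) (α × β) F) * (1 ⊗ₖ vecMulVec w ψ) *
          ((g⁻¹ : GL (α × β) F) : Matrix (α × β) (α × β) F) := by
      rw [Units.val_mul, Units.val_mul, coe_rt, mul_add, add_mul, mul_one, ← Units.val_mul,
        mul_inv_cancel, Units.val_one]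
      abel
    have hsq2 : (((g * rt w ψ h * g⁻¹ : GL (α × β) F) : Matrix (α × β) (α × β) F) - 1) *
        (((g * rt w ψ h * g⁻¹ : GL (α × β) F) : Matrix (α × β) (α × β) F) - 1) = 0 := by
      rw [hsq]
      have h6 : ((g⁻¹ : GL (α × β) F) : Matrix (α × β) (α × β) F) *
          (g : Matrix (α × β) (α × β) F) = 1 := by
        rw [← Units.val_mul, inv_mul_cancel, Units.val_one]
      calc _ = (g : Matrix (α × β) (α × β) F) * ((1 ⊗ₖ vecMulVec w ψ) *
            (((g⁻¹ : GL (α × β) F) : Matrix (α × β) (α × β) F) * (g : Matrix (α × β) (α × β) F)) *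
            (1 ⊗ₖ vecMulVec w ψ)) * ((g⁻¹ : GL (α × β) F) : Matrix (α × β) (α × β) F) := by
              simp only [mul_assoc]
        _ = 0 := by
              rw [h6, mul_one, ← mul_kronecker_mul, vecMulVec_mul_vecMulVec, h]
              simp
    rw [hg, coe_kr, Units.val_one, hB1, kronecker_add, one_kronecker_one, add_sub_cancel_left,
      ← mul_kronecker_mul, vecMulVec_mul_vecMulVec, one_mul] at hsq2
    have hne : g * rt w ψ h * g⁻¹ ≠ 1 := by
      intro h7
      have h8 : (rt w ψ h : GL (α × β) F) = 1 := by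
        have : rt w ψ h = g⁻¹ * (g * rt w ψ h * g⁻¹) * g := by group
        rw [this, h7]; group
      have h9 := h2
      rw [h8] at h9
      have h10 : fixS (1 : GL (α × β) F) = ⊤ := by
        rw [eq_top_iff]; intro v _
        rw [mem_fixS, Units.val_one, one_mulVec]
      rw [h10, finrank_top, Module.finrank_fintype_fun_eq_card, Fintype.card_prod] at h9
      omega
    have hwψne : vecMulVec w' ψ' ≠ 0 := by
      intro h7
      apply hne
      rw [hg]
      apply Units.ext
      rw [coe_kr, hB1, h7, add_zero, Units.val_one, one_kronecker_one, Units.val_one]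
    have hw' : w' ≠ 0 := by
      rintro rfl; exact hwψne (by simp)
    have hψ' : ψ' ≠ 0 := by
      rintro rfl; exact hwψne (by simp)
    have h' : ψ' ⬝ᵥ w' = 0 := by
      by_contra hcon
      obtain ⟨i⟩ := ‹Nonempty α›
      apply hwψne
      ext j k
      have h8 := congrFun (congrFun hsq2 (i, j)) (i, k)
      rw [kroneckerMap_apply, one_apply_eq, one_mul] at h8
      have h8' : w' j * ((ψ' ⬝ᵥ w') * ψ' k) = 0 := h8
      change w' j * ψ' k = 0
      rcases mul_eq_zero.1 h8' with h9 | h9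
      · rw [h9, zero_mul]
      · rcases mul_eq_zero.1 h9 with h10 | h10
        · exact absurd h10 hcon
        · rw [h10, mul_zero]
    refine ⟨w', ψ', h', hw', hψ', ?_⟩
    rw [hg]
    apply Units.ext
    rw [coe_kr, coe_rt, hB1, Units.val_one, kronecker_add, one_kronecker_one]
  · exfalso
    have h3 := finrank_fixS_le (B := B) hA
    rw [← hg, h1] at h3
    omega

end Cfsg.Agent.H872
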