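import Mathlib
import Cfsg.Agent.H872.AutBasic

/-!
# Alternating groups have no self-centralising cyclic subgroup with large prime automiser (helper872)
-/

set_option autoImplicit false

namespace Cfsg.Agent.H872

open Subgroup Equiv Equiv.Perm

variable {G : Type*} [Group G] {C : Subgroup G} {n : ℕ} [Finite G]

/-- an element normalising a nontrivial subgroup of `C` normalises `C`, so acts with order dividing `n` -/
theorem Auto.fusion (h : Auto G C n) {c g : G} {i s : ℕ} (hc : c ∈ C) (hs : s.Prime) (hcs : orderOf c = s)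
    (hg : g * c * g⁻¹ = c ^ i) : ((i : ZMod s)) ^ n = 1 := by
  have hcyc := h.cyc
  have hcomm : ∀ x ∈ C, ∀ y ∈ C, x * y = y * x := by
    intro x hx y hy
    let _ : CommGroup C := IsCyclic.commGroup
    have := mul_comm (⟨x, hx⟩ : C) ⟨y, hy⟩
    exact congrArg Subtype.val this
  have hc1 : c ≠ 1 := by
    rintro rfl
    rw [orderOf_one] at hcs
    exact hs.one_lt.ne hcs
  have hci : c ^ i ≠ 1 := by
    rw [← hg]
    intro h1
    apply hc1
    have h2 : g * c = g := by
      calc g * c = g * c * g⁻¹ * g := by group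
        _ = g := by rw [h1, one_mul]
    exact mul_eq_left.1 h2
  have hgC : ∀ x ∈ C, g * x * g⁻¹ ∈ C := by
    intro x hx
    refine h.cc (c ^ i) (C.pow_mem hc i) hci ?_
    rw [mem_centralizer_singleton_iff, ← hg]
    calc g * x * g⁻¹ * (g * c * g⁻¹) = g * (x * c) * g⁻¹ := by group
      _ = g * (c * x) * g⁻¹ := by rw [hcomm x hx c hc]
      _ = g * c * g⁻¹ * (g * x * g⁻¹) := by group
  have hgN : g ∈ normalizer (C : Set G) := by
    have hinj : Function.Injective (fun x : C => (⟨g * x * g⁻¹, hgC x x.2⟩ : C)) := by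
      intro x y hxy
      have := congrArg Subtype.val hxy
      simp only at this
      exact Subtype.ext (mul_left_cancel (mul_right_cancel this))
    have hsurj := Finite.surjective_of_injective hinj
    rw [mem_normalizer_iff]
    intro x
    constructor
    · intro hx
      exact hgC x hx
    · intro hx
      obtain ⟨y, hy⟩ := hsurj ⟨_, hx⟩
      have := congrArg Subtype.val hy
      simp only at this
      have h3 : (y : G) = x := mul_left_cancel (mul_right_cancel this)
      rw [← h3]
      exact y.2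
  -- `g ^ n ∈ C`
  have hgn : g ^ n ∈ C := by
    have h1 : (C.subgroupOf (normalizer (C : Set G))).index = n := by
      have h2 : (C.subgroupOf (normalizer (C : Set G))).index * Nat.card C = n * Nat.card C := by
        rw [← h.nrm, ← (C.subgroupOf (normalizer (C : Set G))).card_mul_index, mul_comm]
        congr 1
        exact (Nat.card_congr (subgroupOfEquivOfLe (le_normalizer (H := C))).toEquiv).symm
      exact Nat.eq_of_mul_eq_mul_right Nat.card_pos h2
    have h2 : (C.subgroupOf (normalizer (C : Set G))).Normal := inferInstance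
    have h3 := pow_index_mem (C.subgroupOf (normalizer (C : Set G))) (⟨g, hgN⟩ : normalizer (C : Set G))
    rw [h1] at h3
    exact mem_subgroupOf.1 h3
  have hpow : ∀ m : ℕ, g ^ m * c * (g ^ m)⁻¹ = c ^ (i ^ m) := by
    intro m
    induction m with
    | zero => simp
    | succ m ih =>
      calc g ^ (m + 1) * c * (g ^ (m + 1))⁻¹ = g ^ m * (g * c * g⁻¹) * (g ^ m)⁻¹ := by
            rw [pow_succ]; group
        _ = g ^ m * c ^ i * (g ^ m)⁻¹ := by rw [hg]
        _ = (g ^ m * c * (g ^ m)⁻¹) ^ i := by rw [conj_pow]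
        _ = c ^ (i ^ (m + 1)) := by rw [ih, ← pow_mul, pow_succ]
  have h4 := hpow n
  have h5 : g ^ n * c * (g ^ n)⁻¹ = c := by
    rw [hcomm _ hgn c hc]
    group
  rw [h5] at h4
  have h6 : c ^ 1 = c ^ (i ^ n) := by rw [pow_one]; exact h4
  rw [pow_inj_mod, hcs] at h6
  have h7 : ((1 : ℕ) : ZMod s) = ((i ^ n : ℕ) : ZMod s) := (ZMod.natCast_eq_natCast_iff' _ _ _).2 h6
  rw [Nat.cast_one, Nat.cast_pow] at h7
  exact h7.symm

/-- a cycle factor of an element of prime order -/
theorem Auto.alt_cycle {m n : ℕ} {C : Subgroup (alternatingGroup (Fin m))} (h : Auto (alternatingGroup (Fin m)) C n)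
    {s : ℕ} (hs : s.Prime) (hd : s ∣ Nat.card C) :
    ∃ c ∈ C, (c : Perm (Fin m)).IsCycle ∧ orderOf c = s ∧ (c : Perm (Fin m)).support.card = s := by
  have hs2 := h.le_prime hs hd
  have hn := h.ge
  obtain ⟨x, hxC, hxs⟩ := h.exists_order hd
  have hx1 : x ≠ 1 := by
    rintro rfl
    rw [orderOf_one] at hxs
    exact hs.one_lt.ne hxs
  have hx1' : (x : Perm (Fin m)) ≠ 1 := fun h1 => hx1 (Subtype.ext h1)
  have hne : (x : Perm (Fin m)).cycleFactorsFinset.Nonempty := by
    rw [Finset.nonempty_iff_ne_empty]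
    intro h1
    exact hx1' (cycleFactorsFinset_eq_empty_iff.1 h1)
  obtain ⟨c, hc⟩ := hne
  have hcyc : c.IsCycle := (mem_cycleFactorsFinset_iff.1 hc).1
  have hcx : Commute c (x : Perm (Fin m)) := self_mem_cycle_factors_commute hc
  have hdv : c.support.card ∣ s := by
    rw [← hxs, ← Subgroup.orderOf_coe]
    apply dvd_of_mem_cycleType
    rw [cycleType_def]
    exact Multiset.mem_map.2 ⟨c, hc, rfl⟩
  have hcard : c.support.card = s := by
    rcases (Nat.dvd_prime hs).1 hdv with h1 | h1
    · have := hcyc.two_le_card_support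
      omega
    · exact h1
  have hsodd : Odd s := hs.odd_of_ne_two (by omega)
  have hsign : sign c = 1 := by
    rw [hcyc.sign, hcard, hsodd.neg_one_pow, neg_neg]
  have hcA : c ∈ alternatingGroup (Fin m) := mem_alternatingGroup.2 hsign
  refine ⟨⟨c, hcA⟩, ?_, hcyc, ?_, hcard⟩
  · refine h.cc x hxC hx1 ?_
    rw [mem_centralizer_singleton_iff]
    exact Subtype.ext hcx.eq
  · rw [← Subgroup.orderOf_coe]
    exact hcyc.orderOf.trans hcard

theorem Auto.alt_le {m n : ℕ} {C : Subgroup (alternatingGroup (Fin m))} (h : Auto (alternatingGroup (Fin m)) C n)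
    {s : ℕ} (hs : s.Prime) (hd : s ∣ Nat.card C) : m ≤ s + 2 := by
  by_contra hlt
  have hlt : s + 3 ≤ m := by omega
  have hs2 := h.le_prime hs hd
  have hn := h.ge
  obtain ⟨c, hcC, hcyc, hcs, hcard⟩ := h.alt_cycle hs hd
  have h3 : 3 ≤ (c : Perm (Fin m)).supportᶜ.card := by
    rw [Finset.card_compl, hcard, Fintype.card_fin]
    omega
  obtain ⟨t, htsub, ht3⟩ := Finset.exists_subset_card_eq h3
  obtain ⟨a, b, d, hab, had, hbd, rfl⟩ := Finset.card_eq_three.1 ht3
  have hmem : ∀ e ∈ ({a, b, d} : Finset (Fin m)), (c : Perm (Fin m)) e = e := by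
    intro e he
    have := htsub he
    rw [Finset.mem_compl, notMem_support] at this
    exact this
  have hth : (swap a b * swap a d).IsThreeCycle := isThreeCycle_swap_mul_swap_same hab had hbd
  have hdisj : Disjoint (c : Perm (Fin m)) (swap a b * swap a d) := by
    intro e
    by_cases he : e ∈ ({a, b, d} : Finset (Fin m))
    · exact Or.inl (hmem e he)
    · right
      simp only [Finset.mem_insert, Finset.mem_singleton, not_or] at he
      rw [Perm.mul_apply, swap_apply_of_ne_of_ne he.1 he.2.2, swap_apply_of_ne_of_ne he.1 he.2.1]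
  have hA := hth.mem_alternatingGroup
  have hyC : (⟨_, hA⟩ : alternatingGroup (Fin m)) ∈ C := by
    refine h.cc c hcC ?_ ?_
    · rintro rfl
      rw [orderOf_one] at hcs
      exact hs.one_lt.ne hcs
    · rw [mem_centralizer_singleton_iff]
      exact Subtype.ext hdisj.commute.symm.eq
  have ho : orderOf (⟨_, hA⟩ : alternatingGroup (Fin m)) = 3 := by
    rw [← Subgroup.orderOf_coe]
    exact hth.orderOf
  have h3d : 3 ∣ Nat.card C := by
    have h4 : orderOf (⟨_, hyC⟩ : C) = 3 := by
      rw [← Subgroup.orderOf_coe]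
      exact ho
    rw [← h4]
    exact orderOf_dvd_natCard _
  have := h.le_prime Nat.prime_three h3d
  omega

/-- no alternating group -/
theorem Auto.false_of_alt {m n : ℕ} {C : Subgroup (alternatingGroup (Fin m))}
    (h : Auto (alternatingGroup (Fin m)) C n) : False := by
  have hn := h.ge
  have hall : ∀ s : ℕ, s.Prime → s ∣ Nat.card C → s = 2 * n + 1 := by
    intro s hs hd
    have : Fact s.Prime := ⟨hs⟩
    have hs2 := h.le_prime hs hd
    obtain ⟨c, hcC, hcyc, hcs, hcard⟩ := h.alt_cycle hs hd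
    obtain ⟨u, hu⟩ := IsCyclic.exists_generator (α := (ZMod s)ˣ)
    have huo : orderOf u = s - 1 := by
      rw [orderOf_eq_card_of_forall_mem_zpowers hu, Nat.card_eq_fintype_card, ZMod.card_units]
    set j : ℕ := (u : ZMod s).val with hj
    have hju : (j : ZMod s) = u := by rw [hj, ZMod.natCast_zmod_val]
    have hj0 : j ≠ 0 := by
      intro h0
      rw [h0, Nat.cast_zero] at hju
      exact u.ne_zero hju.symm
    have hjlt : j < s := ZMod.val_lt _
    -- `c ^ j` is a cycle with the same support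
    have hosc : orderOf (c : Perm (Fin m)) = s := by rw [Subgroup.orderOf_coe]; exact hcs
    have hcj : ((c : Perm (Fin m)) ^ j).IsCycle :=
      hcyc.isCycle_pow_pos_of_lt_prime_order (hosc ▸ hs) j (Nat.pos_of_ne_zero hj0) (hosc ▸ hjlt)
    have hsupp : ((c : Perm (Fin m)) ^ j).support = (c : Perm (Fin m)).support :=
      hcyc.support_pow_of_pos_of_lt_orderOf (Nat.pos_of_ne_zero hj0) (hosc ▸ hjlt)
    have hconj : IsConj (c : Perm (Fin m)) ((c : Perm (Fin m)) ^ j) := by
      rw [isConj_iff_cycleType_eq, hcyc.cycleType, hcj.cycleType, hsupp]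
    obtain ⟨τ, hτ⟩ := isConj_iff.1 hconj
    have hττ : τ * τ ∈ alternatingGroup (Fin m) := by
      rw [mem_alternatingGroup, map_mul]
      exact Int.units_mul_self _
    have hact : (⟨_, hττ⟩ : alternatingGroup (Fin m)) * c * (⟨_, hττ⟩ : alternatingGroup (Fin m))⁻¹ = c ^ (j * j) := by
      apply Subtype.ext
      change τ * τ * (c : Perm (Fin m)) * (τ * τ)⁻¹ = (c : Perm (Fin m)) ^ (j * j)
      calc τ * τ * (c : Perm (Fin m)) * (τ * τ)⁻¹ = τ * (τ * (c : Perm (Fin m)) * τ⁻¹) * τ⁻¹ := by group
        _ = τ * (c : Perm (Fin m)) ^ j * τ⁻¹ := by rw [hτ]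
        _ = (τ * (c : Perm (Fin m)) * τ⁻¹) ^ j := by rw [conj_pow]
        _ = (c : Perm (Fin m)) ^ (j * j) := by rw [hτ, ← pow_mul]
    have h1 := h.fusion hcC hs hcs hact
    rw [Nat.cast_mul, hju] at h1
    have h2 : u ^ (2 * n) = 1 := by
      apply Units.ext
      rw [Units.val_pow_eq_pow_val, pow_mul, pow_two, h1, Units.val_one]
    have h3 := orderOf_dvd_of_pow_eq_one h2
    rw [huo] at h3
    have h4 := Nat.dvd_antisymm h3 (h.two_mul_dvd hs hd)
    omega
  obtain ⟨s, hs, hd⟩ := h.exists_prime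
  have hsn := hall s hs hd
  have hm := h.alt_le hs hd
  -- `|C|` is a power of `s`
  have hC0 : Nat.card C ≠ 0 := Nat.card_pos.ne'
  have hpow : Nat.card C = s ^ (Nat.card C).primeFactorsList.length := by
    apply Nat.eq_prime_pow_of_unique_prime_dvd hC0
    intro d hdp hdd
    rw [hall d hdp hdd, hsn]
  generalize hN : (Nat.card C).primeFactorsList.length = N at hpow
  have h2 : 2 ≤ N := by
    by_contra hlt
    have h3 : N ≤ 1 := by omega
    have h4 : Nat.card C ≤ s := by
      rw [hpow]
      calc s ^ N ≤ s ^ 1 := Nat.pow_le_pow_right hs.pos h3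
        _ = s := pow_one s
    have := h.big
    omega
  have h5 : s ^ 2 ∣ m.factorial := by
    have h6 : s ^ 2 ∣ Nat.card C := by
      rw [hpow]
      exact pow_dvd_pow s h2
    have h7 : Nat.card (alternatingGroup (Fin m)) ∣ Nat.card (Perm (Fin m)) := Subgroup.card_subgroup_dvd_card _
    rw [Nat.card_eq_fintype_card (α := Perm (Fin m)), Fintype.card_perm, Fintype.card_fin] at h7
    exact (h6.trans (Subgroup.card_subgroup_dvd_card C)).trans h7
  have h6 : s ^ 2 ∣ (s + 2).factorial := h5.trans (Nat.factorial_dvd_factorial hm)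
  obtain ⟨t, rfl⟩ : ∃ t, s = t + 1 := ⟨s - 1, by omega⟩
  have h7 : (t + 1) * (t + 1) ∣ (t + 1) * ((t + 3) * ((t + 2) * t.factorial)) := by
    have : (t + 1 + 2).factorial = (t + 1) * ((t + 3) * ((t + 2) * t.factorial)) := by
      rw [show t + 1 + 2 = (t + 2) + 1 by ring, Nat.factorial_succ, show t + 2 = (t + 1) + 1 by ring,
        Nat.factorial_succ, Nat.factorial_succ]
      ring
    rw [← this, ← pow_two]
    exact h6
  have h8 := Nat.dvd_of_mul_dvd_mul_left (Nat.succ_pos t) h7
  rcases hs.dvd_mul.1 h8 with h9 | h9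
  · have h10 : t + 1 ∣ 2 := (Nat.dvd_add_right (dvd_refl (t + 1))).1 (by
      have : t + 1 + 2 = t + 3 := by ring
      rw [this]; exact h9)
    have := Nat.le_of_dvd (by norm_num) h10
    omega
  · rcases hs.dvd_mul.1 h9 with h9 | h9
    · have h10 : t + 1 ∣ 1 := (Nat.dvd_add_right (dvd_refl (t + 1))).1 (by
        have : t + 1 + 1 = t + 2 := by ring
        rw [this]; exact h9)
      have := Nat.le_of_dvd (by norm_num) h10
      omega
    · have := (hs.dvd_factorial).1 h9
      omega

end Cfsg.Agent.H872
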