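import Mathlib

/-!
# The `r`-part of `∏ (q ^ i - 1)` (helper872)

`rpart_le` : if the prime `r` does not divide `q ≥ 2` and `r ^ k` divides `∏_{i ≤ n} (q ^ i - 1)`, then
`r ^ k ≤ q ^ (2 n)`.
-/

set_option autoImplicit false

namespace Cfsg.Agent.H872.AutNum

open Finset

theorem factorial_le {r : ℕ} [hr : Fact r.Prime] (k : ℕ) : r ^ padicValNat r k.factorial ≤ 2 ^ k := by
  have h1 : (r - 1) * padicValNat r k.factorial ≤ k := by
    rw [sub_one_mul_padicValNat_factorial]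
    exact Nat.sub_le _ _
  have h2 : r ≤ 2 ^ (r - 1) := by
    have := Nat.lt_pow_self (show 1 < 2 by norm_num) (n := r - 1)
    omega
  calc r ^ padicValNat r k.factorial ≤ (2 ^ (r - 1)) ^ padicValNat r k.factorial := Nat.pow_le_pow_left h2 _
    _ = 2 ^ ((r - 1) * padicValNat r k.factorial) := by rw [pow_mul]
    _ ≤ 2 ^ k := Nat.pow_le_pow_right (by norm_num) h1

theorem prod_ne_zero' {q : ℕ} (hq : 2 ≤ q) (n : ℕ) : ∏ i ∈ range n, (q ^ (i + 1) - 1) ≠ 0 := by
  rw [Finset.prod_ne_zero_iff]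
  intro i _
  have : q ^ 1 ≤ q ^ (i + 1) := Nat.pow_le_pow_right (by omega) (by omega)
  rw [pow_one] at this
  omega

theorem sub_ne_zero' {q : ℕ} (hq : 2 ≤ q) {i : ℕ} (hi : i ≠ 0) : q ^ i - 1 ≠ 0 := by
  have : q ^ 1 ≤ q ^ i := Nat.pow_le_pow_right (by omega) (by omega)
  rw [pow_one] at this
  omega

theorem dvd_iff {a r : ℕ} (ha : 1 ≤ a) (m : ℕ) : r ∣ a ^ m - 1 ↔ orderOf (a : ZMod r) ∣ m := by
  rw [orderOf_dvd_iff_pow_eq_one, ← (ZMod.natCast_eq_zero_iff (a ^ m - 1) r),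
    Nat.cast_sub (Nat.one_le_pow _ _ ha)]
  push_cast
  rw [sub_eq_zero]

/-- the odd case -/
theorem rpart_odd {r q : ℕ} [hr : Fact r.Prime] (hr2 : r ≠ 2) (hq : 2 ≤ q) (hrq : ¬ r ∣ q) (n : ℕ) :
    r ^ padicValNat r (∏ i ∈ range n, (q ^ (i + 1) - 1)) ≤ (2 * q) ^ n := by
  set e := orderOf (q : ZMod r) with he
  have he0 : e ≠ 0 := by
    rw [he]
    have hq0 : (q : ZMod r) ≠ 0 := fun h => hrq ((ZMod.natCast_eq_zero_iff q r).1 h)
    have h1 : (q : ZMod r) ^ (r - 1) = 1 := ZMod.pow_card_sub_one_eq_one hq0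
    exact (orderOf_pos_iff.2 (isOfFinOrder_iff_pow_eq_one.2 ⟨r - 1, by have := hr.out.two_le; omega, h1⟩)).ne'
  have hodd : Odd r := hr.out.odd_of_ne_two hr2
  have hdv : ∀ m, r ∣ q ^ m - 1 ↔ e ∣ m := dvd_iff (by omega)
  set w := padicValNat r (q ^ e - 1) with hw
  have hval : ∀ n, padicValNat r (∏ i ∈ range n, (q ^ (i + 1) - 1)) = (n / e) * w + padicValNat r (n / e).factorial := by
    intro n
    induction n with
    | zero => simp
    | succ n ih =>
      rw [prod_range_succ, padicValNat.mul (prod_ne_zero' hq n) (sub_ne_zero' hq (Nat.succ_ne_zero n)), ih,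
        Nat.succ_div]
      by_cases hd : e ∣ n + 1
      · rw [if_pos hd]
        obtain ⟨j, hj⟩ := hd
        have hj0 : j ≠ 0 := by rintro rfl; omega
        have hne : n / e + 1 = j := by
          have h1 : (n + 1) / e = n / e + if e ∣ n + 1 then 1 else 0 := Nat.succ_div
          rw [if_pos ⟨j, hj⟩, hj, Nat.mul_div_cancel_left _ (Nat.pos_of_ne_zero he0)] at h1
          exact h1.symm
        have h1 : padicValNat r (q ^ (n + 1) - 1) = w + padicValNat r j := by
          rw [hj, pow_mul]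
          have := padicValNat.pow_sub_pow (p := r) hodd (x := q ^ e) (y := 1) (by
            have := Nat.pow_le_pow_right (show 1 ≤ q by omega) (show 1 ≤ e by omega)
            rw [pow_one] at this
            omega) ((hdv e).2 dvd_rfl) (fun h => hrq (hr.out.dvd_of_dvd_pow h)) (n := j) hj0
          rwa [one_pow] at this
        rw [h1, hne]
        have h2 : padicValNat r j.factorial = padicValNat r j + padicValNat r (n / e).factorial := by
          rw [← hne, Nat.factorial_succ, padicValNat.mul (Nat.succ_ne_zero _) (Nat.factorial_ne_zero _)]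
        rw [h2, ← hne]
        ring
      · rw [if_neg hd, add_zero]
        have h1 : padicValNat r (q ^ (n + 1) - 1) = 0 := padicValNat.eq_zero_of_not_dvd (fun h => hd ((hdv _).1 h))
        rw [h1, add_zero]
  rw [hval, pow_add, mul_comm (n / e) w, pow_mul]
  have h1 : r ^ w ≤ q ^ e - 1 := Nat.le_of_dvd (Nat.pos_of_ne_zero (sub_ne_zero' hq he0)) pow_padicValNat_dvd
  have h2 : r ^ w ≤ q ^ e := h1.trans (Nat.sub_le _ _)
  calc (r ^ w) ^ (n / e) * r ^ padicValNat r (n / e).factorial ≤ (q ^ e) ^ (n / e) * 2 ^ (n / e) :=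
        Nat.mul_le_mul (Nat.pow_le_pow_left h2 _) (factorial_le _)
    _ ≤ (q ^ e) ^ (n / e) * (2 ^ e) ^ (n / e) := by
        apply Nat.mul_le_mul_left
        apply Nat.pow_le_pow_left
        calc 2 = 2 ^ 1 := (pow_one 2).symm
          _ ≤ 2 ^ e := Nat.pow_le_pow_right (by norm_num) (by omega)
    _ = (2 * q) ^ (e * (n / e)) := by rw [← mul_pow, ← mul_pow, ← pow_mul, mul_comm q 2]
    _ ≤ (2 * q) ^ n := Nat.pow_le_pow_right (by omega) (Nat.mul_div_le n e)

/-- the even case -/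
theorem rpart_two {q : ℕ} (hq : 2 ≤ q) (hrq : ¬ 2 ∣ q) (n : ℕ) :
    2 ^ padicValNat 2 (∏ i ∈ range n, (q ^ (i + 1) - 1)) ≤ (2 * (q + 1)) ^ n := by
  have h2 : Fact (Nat.Prime 2) := ⟨Nat.prime_two⟩
  set w := padicValNat 2 (q + 1) + padicValNat 2 (q - 1) - 1 with hw
  have hd1 : 2 ∣ q + 1 := by omega
  have hd2 : 2 ∣ q - 1 := by omega
  have hv1 : 1 ≤ padicValNat 2 (q + 1) := one_le_padicValNat_of_dvd (by omega) hd1
  have hv2 : 1 ≤ padicValNat 2 (q - 1) := one_le_padicValNat_of_dvd (by omega) hd2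
  have hw2 : 2 ^ w ≤ q + 1 := by
    by_cases h4 : 4 ∣ q + 1
    · have h5 : padicValNat 2 (q - 1) = 1 := by
        by_contra hne
        have h6 : 2 ^ 2 ∣ q - 1 := (padicValNat_dvd_iff_le (by omega)).2 (by omega)
        omega
      rw [hw, h5, Nat.add_sub_cancel]
      exact Nat.le_of_dvd (by omega) pow_padicValNat_dvd
    · have h5 : padicValNat 2 (q + 1) = 1 := by
        by_contra hne
        have h6 : 2 ^ 2 ∣ q + 1 := (padicValNat_dvd_iff_le (by omega)).2 (by omega)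
        omega
      rw [hw, h5, Nat.add_sub_cancel_left]
      have := Nat.le_of_dvd (by omega) (pow_padicValNat_dvd (p := 2) (n := q - 1))
      omega
  have hstep : ∀ i : ℕ, i ≠ 0 → padicValNat 2 (q ^ i - 1) ≤ w + padicValNat 2 i := by
    intro i hi
    have h1 := padicValNat.pow_two_sub_one (x := q) (n := 2 * i) (by omega) hrq (by omega) (even_two_mul i)
    have h3 : q ^ (2 * i) - 1 = (q ^ i - 1) * (q ^ i + 1) := by
      have h4 : 1 ≤ q ^ i := Nat.one_le_pow _ _ (by omega)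
      obtain ⟨t, ht⟩ : ∃ t, q ^ i = t + 1 := ⟨q ^ i - 1, by omega⟩
      rw [mul_comm 2 i, pow_mul, ht]
      have : (t + 1) ^ 2 - 1 = t * (t + 2) := by
        have : (t + 1) ^ 2 = t * (t + 2) + 1 := by ring
        omega
      rw [this, Nat.add_sub_cancel]
    have h4 : 1 ≤ padicValNat 2 (q ^ i + 1) := by
      apply one_le_padicValNat_of_dvd (by omega)
      have : ¬ 2 ∣ q ^ i := fun h => hrq (Nat.prime_two.dvd_of_dvd_pow h)
      omega
    rw [h3, padicValNat.mul (sub_ne_zero' hq hi) (by omega), padicValNat.mul (by norm_num) hi,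
      padicValNat_self] at h1
    omega
  have hval : ∀ n, padicValNat 2 (∏ i ∈ range n, (q ^ (i + 1) - 1)) ≤ n * w + padicValNat 2 n.factorial := by
    intro n
    induction n with
    | zero => simp
    | succ n ih =>
      rw [prod_range_succ, padicValNat.mul (prod_ne_zero' hq n) (sub_ne_zero' hq (Nat.succ_ne_zero n)),
        Nat.factorial_succ, padicValNat.mul (Nat.succ_ne_zero _) (Nat.factorial_ne_zero _)]
      have := hstep (n + 1) (Nat.succ_ne_zero n)
      calc _ ≤ n * w + padicValNat 2 n.factorial + (w + padicValNat 2 (n + 1)) := Nat.add_le_add ih this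
        _ = _ := by ring
  calc 2 ^ padicValNat 2 (∏ i ∈ range n, (q ^ (i + 1) - 1)) ≤ 2 ^ (n * w + padicValNat 2 n.factorial) :=
        Nat.pow_le_pow_right (by norm_num) (hval n)
    _ = (2 ^ w) ^ n * 2 ^ padicValNat 2 n.factorial := by rw [pow_add, mul_comm n w, pow_mul]
    _ ≤ (q + 1) ^ n * 2 ^ n := Nat.mul_le_mul (Nat.pow_le_pow_left hw2 _) (factorial_le _)
    _ = (2 * (q + 1)) ^ n := by rw [← mul_pow, mul_comm]

/-- the bound for the `r`-part -/
theorem rpart_le {r q k n : ℕ} (hr : r.Prime) (hq : 2 ≤ q) (hrq : ¬ r ∣ q)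
    (hk : r ^ k ∣ ∏ i ∈ range n, (q ^ (i + 1) - 1)) : r ^ k ≤ q ^ (2 * n) := by
  have : Fact r.Prime := ⟨hr⟩
  have h1 : k ≤ padicValNat r (∏ i ∈ range n, (q ^ (i + 1) - 1)) := (padicValNat_dvd_iff_le (prod_ne_zero' hq n)).1 hk
  have h2 : r ^ k ≤ r ^ padicValNat r (∏ i ∈ range n, (q ^ (i + 1) - 1)) := Nat.pow_le_pow_right hr.pos h1
  refine h2.trans ?_
  rw [pow_mul]
  by_cases h : r = 2
  · subst h
    refine (rpart_two hq hrq n).trans (Nat.pow_le_pow_left ?_ n)
    have h3 : 3 ≤ q := by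
      by_contra hlt
      exact hrq ⟨1, by omega⟩
    nlinarith
  · refine (rpart_odd h hq hrq n).trans (Nat.pow_le_pow_left ?_ n)
    nlinarith

/-- cross characteristic is impossible -/
theorem cross {r Q q N D n c : ℕ} (hr : r.Prime) (hq : 2 ≤ q) (hrq : ¬ r ∣ q) {f : ℕ} (hQ : Q = r ^ f)
    (hN : Q ^ N ∣ ∏ i ∈ range n, (q ^ (i + 1) - 1)) (hND : 5 * D ≤ 2 * N) (hn : 10 ≤ n) (hc : c < Q ^ D)
    (hqc : q ^ (n - 2) ≤ c) : False := by
  have h1 : Q ^ N ≤ q ^ (2 * n) := by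
    rw [hQ, ← pow_mul] at hN ⊢
    exact rpart_le hr hq hrq hN
  have hQ1 : 1 ≤ Q := by rw [hQ]; exact Nat.one_le_pow _ _ hr.pos
  have h2 : q ^ (5 * (n - 2)) < q ^ (4 * n) := by
    calc q ^ (5 * (n - 2)) = (q ^ (n - 2)) ^ 5 := by rw [← pow_mul, mul_comm]
      _ ≤ c ^ 5 := Nat.pow_le_pow_left hqc 5
      _ < (Q ^ D) ^ 5 := Nat.pow_lt_pow_left hc (by norm_num)
      _ = Q ^ (5 * D) := by rw [← pow_mul, mul_comm]
      _ ≤ Q ^ (2 * N) := Nat.pow_le_pow_right hQ1 hND
      _ = (Q ^ N) ^ 2 := by rw [← pow_mul, mul_comm]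
      _ ≤ (q ^ (2 * n)) ^ 2 := Nat.pow_le_pow_left h1 2
      _ = q ^ (4 * n) := by rw [← pow_mul]; congr 1; ring
  have h3 := (Nat.pow_lt_pow_iff_right (by omega)).1 h2
  omega

end Cfsg.Agent.H872.AutNum
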