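import Mathlib
import Cfsg.Agent.H872.AutRel

/-!
# A criterion for `RelAuto` (helper872)
-/

set_option autoImplicit false

namespace Cfsg.Agent.H872

open Subgroup

variable {G : Type*} [Group G] {H C : Subgroup G} {n : ℕ}

theorem RelAuto.mk' [Finite G] (hle : C ≤ H) (hn : n.Prime) (hn11 : 11 ≤ n) (hcyc : IsCyclic C)
    (hcc : ∀ x ∈ C, x ≠ 1 → ∀ g ∈ H, g * x = x * g → g ∈ C) (hodd : Odd (Nat.card C)) (hbig : 10 * n < Nat.card C)
    {φ : G} (hφ : φ ∈ H) {q : ℕ} (hφq : ∀ x ∈ C, φ * x * φ⁻¹ = x ^ q)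
    (hord : ∀ s : ℕ, s.Prime → s ∣ Nat.card C → orderOf (q : ZMod s) = n)
    (hfix : ∀ x ∈ C, x ^ (q ^ n) = x)
    (hall : ∀ g ∈ normalizer (C : Set G) ⊓ H, ∃ j : ℕ, ∀ x ∈ C, g * x * g⁻¹ = x ^ (q ^ j)) : RelAuto H C n := by
  refine ⟨hle, hn, hn11, hcyc, hcc, hodd, hbig, ⟨φ, hφ, q, hφq, hord⟩, ?_⟩
  have hcomm : ∀ x ∈ C, ∀ y ∈ C, x * y = y * x := by
    intro x hx y hy
    let _ : CommGroup C := IsCyclic.commGroup
    have := mul_comm (⟨x, hx⟩ : C) ⟨y, hy⟩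
    exact congrArg Subtype.val this
  obtain ⟨s, hs, hsd⟩ : ∃ s : ℕ, s.Prime ∧ s ∣ Nat.card C := by
    apply Nat.exists_prime_and_dvd
    intro h1
    omega
  have : Fact s.Prime := ⟨hs⟩
  obtain ⟨x, hxs⟩ := exists_prime_orderOf_dvd_card' (G := C) s hsd
  have hx1 : (x : G) ≠ 1 := by
    intro h1
    have : x = 1 := Subtype.ext h1
    rw [this, orderOf_one] at hxs
    exact hs.one_lt.ne hxs
  set N : Subgroup G := normalizer (C : Set G) ⊓ H with hN
  have hCN : C ≤ N := le_inf le_normalizer hle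
  have hCn : (C.subgroupOf N).Normal := by
    constructor
    intro x hx y
    rw [mem_subgroupOf] at hx ⊢
    exact ((mem_normalizer_iff.1 y.2.1) x).1 hx
  have hφN : φ ∈ N := ⟨mem_normalizer_of_finite (fun x hx => by rw [hφq x hx]; exact C.pow_mem hx q), hφ⟩
  let a : N ⧸ C.subgroupOf N := QuotientGroup.mk' _ ⟨φ, hφN⟩
  have hpow : ∀ j : ℕ, a ^ j = 1 ↔ φ ^ j ∈ C := by
    intro j
    have h1 : a ^ j = QuotientGroup.mk' (C.subgroupOf N) ((⟨φ, hφN⟩ : N) ^ j) := (map_pow _ _ _).symm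
    rw [h1, QuotientGroup.mk'_apply, QuotientGroup.eq_one_iff, mem_subgroupOf]
    rfl
  have ha : orderOf a = n := by
    apply Nat.dvd_antisymm
    · apply orderOf_dvd_of_pow_eq_one
      rw [hpow]
      refine hcc x x.2 hx1 _ (H.pow_mem hφ n) ?_
      have h1 := act_pow hφq n x x.2
      rw [hfix x x.2] at h1
      calc φ ^ n * (x : G) = (φ ^ n * x * (φ ^ n)⁻¹) * φ ^ n := by group
        _ = x * φ ^ n := by rw [h1]
    · have h1 : φ ^ (orderOf a) ∈ C := (hpow _).1 (pow_orderOf_eq_one a)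
      have h2 := act_pow hφq (orderOf a) x x.2
      have h3 : φ ^ (orderOf a) * (x : G) * (φ ^ (orderOf a))⁻¹ = x := by
        rw [hcomm _ h1 _ x.2]
        group
      rw [h3] at h2
      have h4 : (x : G) ^ 1 = (x : G) ^ (q ^ orderOf a) := by rw [pow_one]; exact h2
      rw [pow_inj_mod, Subgroup.orderOf_coe, hxs] at h4
      have h5 : ((1 : ℕ) : ZMod s) = ((q ^ orderOf a : ℕ) : ZMod s) := (ZMod.natCast_eq_natCast_iff' _ _ _).2 h4
      rw [Nat.cast_one, Nat.cast_pow] at h5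
      rw [← hord s hs hsd]
      exact orderOf_dvd_of_pow_eq_one h5.symm
  have htop : ∀ b : N ⧸ C.subgroupOf N, b ∈ zpowers a := by
    intro b
    obtain ⟨⟨g, hg⟩, rfl⟩ := QuotientGroup.mk'_surjective (C.subgroupOf N) b
    obtain ⟨j, hj⟩ := hall g hg
    have h1 : (φ ^ j)⁻¹ * g ∈ C := by
      refine hcc x x.2 hx1 _ (H.mul_mem (H.inv_mem (H.pow_mem hφ j)) hg.2) ?_
      have h2 := act_pow hφq j x x.2
      rw [← hj x x.2] at h2
      calc (φ ^ j)⁻¹ * g * x = (φ ^ j)⁻¹ * (g * x * g⁻¹) * g := by group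
        _ = (φ ^ j)⁻¹ * (φ ^ j * x * (φ ^ j)⁻¹) * g := by rw [h2]
        _ = x * ((φ ^ j)⁻¹ * g) := by group
    refine ⟨j, ?_⟩
    simp only [zpow_natCast]
    have h2 : a ^ j = QuotientGroup.mk' (C.subgroupOf N) ((⟨φ, hφN⟩ : N) ^ j) := (map_pow _ _ _).symm
    rw [h2]
    apply QuotientGroup.eq.2
    rw [mem_subgroupOf]
    exact h1
  have hcard : Nat.card (N ⧸ C.subgroupOf N) = n := by
    rw [← ha]
    exact (orderOf_eq_card_of_forall_mem_zpowers htop).symm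
  rw [(C.subgroupOf N).card_eq_card_quotient_mul_card_subgroup, hcard]
  congr 1
  exact Nat.card_congr (subgroupOfEquivOfLe hCN).toEquiv

end Cfsg.Agent.H872
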