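import Cfsg.Prelude.Def_GeometricClasses
import Cfsg.Agent.H873.Tv

/-!
Kronecker products in `GL (α × β) F` acting on `α × β → F`: pure tensors `ten u w`, contractions
`lc φ v = (φ ⊗ 1) v`, `rc ψ v = (1 ⊗ ψ) v`, the columns `col w = {ten u w}` and the elements
`rt w ψ = 1 ⊗ (1 + w ψ)`.
-/

set_option autoImplicit false
set_option linter.unusedSectionVars false

namespace Cfsg.Agent.H872

open Matrix Cfsg.Agent.H873
open scoped Kronecker

variable {α β : Type} [Fintype α] [DecidableEq α] [Fintype β] [DecidableEq β] {F : Type*} [Field F]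

/-- The Kronecker product of invertible matrices. -/
def kr : GL α F × GL β F →* GL (α × β) F where
  toFun x :=
    { val := (x.1 : Matrix α α F) ⊗ₖ (x.2 : Matrix β β F)
      inv := ((x.1⁻¹ : GL α F) : Matrix α α F) ⊗ₖ ((x.2⁻¹ : GL β F) : Matrix β β F)
      val_inv := by
        rw [← mul_kronecker_mul, ← Units.val_mul, ← Units.val_mul, mul_inv_cancel, mul_inv_cancel,
          Units.val_one, Units.val_one, one_kronecker_one]
      inv_val := by
        rw [← mul_kronecker_mul, ← Units.val_mul, ← Units.val_mul, inv_mul_cancel, inv_mul_cancel,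
          Units.val_one, Units.val_one, one_kronecker_one] }
  map_one' := Units.ext (by
    change ((1 : GL α F) : Matrix α α F) ⊗ₖ ((1 : GL β F) : Matrix β β F) = _
    rw [Units.val_one, Units.val_one, one_kronecker_one]; rfl)
  map_mul' x y := Units.ext (by
    change ((x.1 * y.1 : GL α F) : Matrix α α F) ⊗ₖ ((x.2 * y.2 : GL β F) : Matrix β β F) = _
    rw [Units.val_mul, Units.val_mul, mul_kronecker_mul]; rfl)

theorem coe_kr (x : GL α F × GL β F) : (kr x : Matrix (α × β) (α × β) F) =
    (x.1 : Matrix α α F) ⊗ₖ (x.2 : Matrix β β F) := rfl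

/-- Pure tensors. -/
def ten (u : α → F) (w : β → F) : α × β → F := fun p => u p.1 * w p.2

theorem ten_apply (u : α → F) (w : β → F) (p : α × β) : ten u w p = u p.1 * w p.2 := rfl

theorem ten_add_left (u u' : α → F) (w : β → F) : ten (u + u') w = ten u w + ten u' w := by
  funext p; simp only [ten_apply, Pi.add_apply]; ring

theorem ten_add_right (u : α → F) (w w' : β → F) : ten u (w + w') = ten u w + ten u w' := by
  funext p; simp only [ten_apply, Pi.add_apply]; ring

theorem ten_smul_left (c : F) (u : α → F) (w : β → F) : ten (c • u) w = c • ten u w := by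
  funext p; simp only [ten_apply, Pi.smul_apply, smul_eq_mul]; ring

theorem ten_smul_right (c : F) (u : α → F) (w : β → F) : ten u (c • w) = c • ten u w := by
  funext p; simp only [ten_apply, Pi.smul_apply, smul_eq_mul]; ring

theorem ten_zero_left (w : β → F) : ten (0 : α → F) w = 0 := by
  funext p; simp [ten_apply]

theorem ten_zero_right (u : α → F) : ten u (0 : β → F) = 0 := by
  funext p; simp [ten_apply]

theorem ten_neg_left (u : α → F) (w : β → F) : ten (-u) w = - ten u w := by
  funext p; simp only [ten_apply, Pi.neg_apply]; ring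

theorem ten_sub_left (u u' : α → F) (w : β → F) : ten (u - u') w = ten u w - ten u' w := by
  rw [sub_eq_add_neg, ten_add_left, ten_neg_left, sub_eq_add_neg]

theorem kron_mulVec_ten (A : Matrix α α F) (B : Matrix β β F) (u : α → F) (w : β → F) :
    (A ⊗ₖ B) *ᵥ ten u w = ten (A *ᵥ u) (B *ᵥ w) := by
  funext p
  simp only [mulVec, dotProduct, ten_apply, kroneckerMap_apply, Fintype.sum_prod_type]
  rw [Finset.sum_mul_sum]
  refine Finset.sum_congr rfl fun i _ => Finset.sum_congr rfl fun j _ => ?_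
  ring

theorem kr_mulVec_ten (x : GL α F × GL β F) (u : α → F) (w : β → F) :
    (kr x : Matrix (α × β) (α × β) F) *ᵥ ten u w =
      ten ((x.1 : Matrix α α F) *ᵥ u) ((x.2 : Matrix β β F) *ᵥ w) := by
  rw [coe_kr, kron_mulVec_ten]

/-- `(φ ⊗ 1) v`. -/
def lc (φ : α → F) : (α × β → F) →ₗ[F] (β → F) where
  toFun v := fun j => ∑ i, φ i * v (i, j)
  map_add' v v' := by
    funext j
    simp only [Pi.add_apply, mul_add, Finset.sum_add_distrib]
  map_smul' c v := by
    funext j
    simp only [Pi.smul_apply, smul_eq_mul, RingHom.id_apply, Finset.mul_sum]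
    exact Finset.sum_congr rfl fun i _ => by ring

/-- `(1 ⊗ ψ) v`. -/
def rc (ψ : β → F) : (α × β → F) →ₗ[F] (α → F) where
  toFun v := fun i => ∑ j, ψ j * v (i, j)
  map_add' v v' := by
    funext j
    simp only [Pi.add_apply, mul_add, Finset.sum_add_distrib]
  map_smul' c v := by
    funext j
    simp only [Pi.smul_apply, smul_eq_mul, RingHom.id_apply, Finset.mul_sum]
    exact Finset.sum_congr rfl fun i _ => by ring

theorem lc_apply (φ : α → F) (v : α × β → F) (j : β) : lc φ v j = ∑ i, φ i * v (i, j) := rfl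

theorem rc_apply (ψ : β → F) (v : α × β → F) (i : α) : rc ψ v i = ∑ j, ψ j * v (i, j) := rfl

theorem lc_ten (φ u : α → F) (w : β → F) : lc φ (ten u w) = (φ ⬝ᵥ u) • w := by
  funext j
  simp only [lc_apply, ten_apply, Pi.smul_apply, smul_eq_mul, dotProduct, Finset.sum_mul]
  exact Finset.sum_congr rfl fun i _ => by ring

theorem rc_ten (ψ : β → F) (u : α → F) (w : β → F) : rc ψ (ten u w) = (ψ ⬝ᵥ w) • u := by
  funext j
  simp only [rc_apply, ten_apply, Pi.smul_apply, smul_eq_mul, dotProduct, Finset.sum_mul]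
  exact Finset.sum_congr rfl fun i _ => by ring

theorem eq_sum_ten (v : α × β → F) : v = ∑ i, ten (Pi.single i (1 : F)) (fun j => v (i, j)) := by
  funext p
  rw [Finset.sum_apply, Finset.sum_eq_single p.1]
  · simp [ten_apply]
  · intro i _ hi
    simp [ten_apply, Ne.symm hi]
  · intro h; exact absurd (Finset.mem_univ _) h

/-- A linear map is determined by its values on pure tensors. -/
theorem linearMap_ext_ten {V : Type*} [AddCommGroup V] [Module F V] {f g : (α × β → F) →ₗ[F] V}
    (h : ∀ u w, f (ten u w) = g (ten u w)) : f = g := by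
  refine LinearMap.ext fun v => ?_
  rw [eq_sum_ten v, map_sum, map_sum]
  exact Finset.sum_congr rfl fun i _ => h _ _

theorem gl_ext_ten {g h : GL (α × β) F}
    (H : ∀ u w, (g : Matrix (α × β) (α × β) F) *ᵥ ten u w = (h : Matrix (α × β) (α × β) F) *ᵥ ten u w) :
    g = h := by
  apply gl_ext
  have h1 : Matrix.toLin' (g : Matrix (α × β) (α × β) F) =
      Matrix.toLin' (h : Matrix (α × β) (α × β) F) := by
    refine linearMap_ext_ten fun u w => ?_
    rw [Matrix.toLin'_apply, Matrix.toLin'_apply, H]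
  intro x
  have h2 := LinearMap.congr_fun h1 x
  rwa [Matrix.toLin'_apply, Matrix.toLin'_apply] at h2

theorem lc_kron (φ : α → F) (A : Matrix α α F) (B : Matrix β β F) (v : α × β → F) :
    lc φ ((A ⊗ₖ B) *ᵥ v) = B *ᵥ lc (φ ᵥ* A) v := by
  have h : (lc φ ∘ₗ Matrix.toLin' (A ⊗ₖ B) : (α × β → F) →ₗ[F] (β → F)) =
      Matrix.toLin' B ∘ₗ lc (φ ᵥ* A) := by
    refine linearMap_ext_ten fun u w => ?_
    rw [LinearMap.comp_apply, LinearMap.comp_apply, Matrix.toLin'_apply, Matrix.toLin'_apply,
      kron_mulVec_ten, lc_ten, lc_ten, mulVec_smul, dotProduct_mulVec]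
  have h2 := LinearMap.congr_fun h v
  rwa [LinearMap.comp_apply, LinearMap.comp_apply, Matrix.toLin'_apply, Matrix.toLin'_apply] at h2

theorem rc_kron (ψ : β → F) (A : Matrix α α F) (B : Matrix β β F) (v : α × β → F) :
    rc ψ ((A ⊗ₖ B) *ᵥ v) = A *ᵥ rc (ψ ᵥ* B) v := by
  have h : (rc ψ ∘ₗ Matrix.toLin' (A ⊗ₖ B) : (α × β → F) →ₗ[F] (α → F)) =
      Matrix.toLin' A ∘ₗ rc (ψ ᵥ* B) := by
    refine linearMap_ext_ten fun u w => ?_
    rw [LinearMap.comp_apply, LinearMap.comp_apply, Matrix.toLin'_apply, Matrix.toLin'_apply,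
      kron_mulVec_ten, rc_ten, rc_ten, mulVec_smul, dotProduct_mulVec]
  have h2 := LinearMap.congr_fun h v
  rwa [LinearMap.comp_apply, LinearMap.comp_apply, Matrix.toLin'_apply, Matrix.toLin'_apply] at h2

theorem kron_vecMulVec_mulVec (Y : Matrix α α F) (w ψ : β → F) (v : α × β → F) :
    (Y ⊗ₖ vecMulVec w ψ) *ᵥ v = ten (Y *ᵥ rc ψ v) w := by
  have h : (Matrix.toLin' (Y ⊗ₖ vecMulVec w ψ) : (α × β → F) →ₗ[F] (α × β → F)) =
      { toFun := fun v => ten (Y *ᵥ rc ψ v) w
        map_add' := fun x y => by rw [map_add, mulVec_add, ten_add_left]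
        map_smul' := fun c x => by rw [map_smul, mulVec_smul, ten_smul_left]; rfl } := by
    refine linearMap_ext_ten fun u x => ?_
    rw [Matrix.toLin'_apply, kron_mulVec_ten, vecMulVec_mulVec, op_smul_eq_smul]
    change _ = ten (Y *ᵥ rc ψ (ten u x)) w
    rw [rc_ten, mulVec_smul, ten_smul_left, ten_smul_right]
  have h2 := LinearMap.congr_fun h v
  rwa [Matrix.toLin'_apply] at h2

/-- The column `{u ⊗ w}`. -/
def col (w : β → F) : Submodule F (α × β → F) where
  carrier := {v | ∃ u, ten u w = v}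
  add_mem' := by
    rintro _ _ ⟨u, rfl⟩ ⟨u', rfl⟩
    exact ⟨u + u', ten_add_left _ _ _⟩
  zero_mem' := ⟨0, ten_zero_left _⟩
  smul_mem' := by
    rintro c _ ⟨u, rfl⟩
    exact ⟨c • u, ten_smul_left _ _ _⟩

theorem mem_col {w : β → F} {v : α × β → F} : v ∈ col w ↔ ∃ u, ten u w = v := Iff.rfl

theorem ten_mem_col (u : α → F) (w : β → F) : ten u w ∈ col w := ⟨u, rfl⟩

theorem ten_left_injective {w : β → F} (hw : w ≠ 0) {u u' : α → F} (h : ten u w = ten u' w) :
    u = u' := by
  obtain ⟨j, hj⟩ : ∃ j, w j ≠ 0 := by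
    by_contra hcon
    push Not at hcon
    exact hw (funext hcon)
  funext i
  have := congrFun h (i, j)
  simp only [ten_apply] at this
  exact mul_right_cancel₀ hj this

theorem ten_right_injective {u : α → F} (hu : u ≠ 0) {w w' : β → F} (h : ten u w = ten u w') :
    w = w' := by
  obtain ⟨j, hj⟩ : ∃ j, u j ≠ 0 := by
    by_contra hcon
    push Not at hcon
    exact hu (funext hcon)
  funext i
  have := congrFun h (j, i)
  simp only [ten_apply] at this
  exact mul_left_cancel₀ hj this

theorem ten_ne_zero {u : α → F} {w : β → F} (hu : u ≠ 0) (hw : w ≠ 0) : ten u w ≠ 0 := by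
  intro h
  exact hu (ten_left_injective hw (h.trans (ten_zero_left w).symm))

/-- The root element `1 ⊗ (1 + w ψ)`. -/
def rt (w ψ : β → F) (h : ψ ⬝ᵥ w = 0) : GL (α × β) F := kr (1, tv w ψ h)

theorem coe_rt (w ψ : β → F) (h : ψ ⬝ᵥ w = 0) :
    ((rt w ψ h : GL (α × β) F) : Matrix (α × β) (α × β) F) = 1 + 1 ⊗ₖ vecMulVec w ψ := by
  rw [rt, coe_kr, Units.val_one, coe_tv, kronecker_add, one_kronecker_one]

theorem rt_mulVec (w ψ : β → F) (h : ψ ⬝ᵥ w = 0) (v : α × β → F) :
    ((rt w ψ h : GL (α × β) F) : Matrix (α × β) (α × β) F) *ᵥ v = v + ten (rc ψ v) w := by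
  rw [coe_rt, add_mulVec, one_mulVec, kron_vecMulVec_mulVec, one_mulVec]

end Cfsg.Agent.H872
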