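import Cfsg.Agent.H872.KronTv

/-!
Linear preservers of pure tensors: if `card α < card β` and `g` maps pure tensors to pure tensors, then
`g` is a Kronecker product.
-/

set_option autoImplicit false
set_option linter.unusedSectionVars false

namespace Cfsg.Agent.H872

open Matrix Cfsg.Agent.H873
open scoped Kronecker

variable {α β : Type} [Fintype α] [DecidableEq α] [Fintype β] [DecidableEq β] {F : Type*} [Field F]

theorem lc_add_left (φ φ' : α → F) (v : α × β → F) : lc (φ + φ') v = lc φ v + lc φ' v := by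
  funext j
  simp only [lc_apply, Pi.add_apply, add_mul, Finset.sum_add_distrib]

/-- Two pure tensors with pure sum. -/
theorem parallel_of_sum {x x' a : α → F} {y y' b : β → F} (hx' : x' ≠ 0) (hy' : y' ≠ 0)
    (hx : ¬ ∃ c : F, x = c • x') (h : ten x y + ten x' y' = ten a b) : ∃ c : F, y = c • y' := by
  have hx2 : ¬ ∃ c : F, x' = c • x := by
    rintro ⟨c, hc⟩
    have hc0 : c ≠ 0 := by rintro rfl; exact hx' (by rw [hc, zero_smul])
    exact hx ⟨c⁻¹, by rw [hc, smul_smul, inv_mul_cancel₀ hc0, one_smul]⟩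
  obtain ⟨φ, h1, h2⟩ := exists_dot_pair hx
  obtain ⟨φ', h3, h4⟩ := exists_dot_pair hx2
  have h5 := congrArg (lc φ) h
  have h6 := congrArg (lc φ') h
  rw [map_add, lc_ten, lc_ten, lc_ten, h1, h2, one_smul, zero_smul, add_zero] at h5
  rw [map_add, lc_ten, lc_ten, lc_ten, h3, h4, one_smul, zero_smul, zero_add] at h6
  have h7 : φ' ⬝ᵥ a ≠ 0 := by
    intro h8
    rw [h8, zero_smul] at h6
    exact hy' h6
  refine ⟨(φ ⬝ᵥ a) * (φ' ⬝ᵥ a)⁻¹, ?_⟩
  rw [h5, h6, smul_smul, mul_assoc, inv_mul_cancel₀ h7, mul_one]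

theorem ten_eq_zero {u : α → F} {w : β → F} (h : ten u w = 0) : u = 0 ∨ w = 0 := by
  by_contra hcon
  push Not at hcon
  exact ten_ne_zero hcon.1 hcon.2 h

theorem gl_mulVec_eq_zero {ι : Type} [Fintype ι] [DecidableEq ι] (g : GL ι F) {x : ι → F}
    (h : (g : Matrix ι ι F) *ᵥ x = 0) : x = 0 := by
  rw [← inv_mulVec_mulVec g x, h, mulVec_zero]

/-- Rows go to rows. -/
theorem row_of_pres (hab : Fintype.card α < Fintype.card β) {g : GL (α × β) F}
    (hp : ∀ (u : α → F) (w : β → F), ∃ (u' : α → F) (w' : β → F),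
      (g : Matrix (α × β) (α × β) F) *ᵥ ten u w = ten u' w') {u : α → F} (hu : u ≠ 0) :
    ∃ u' : α → F, u' ≠ 0 ∧ ∀ w, ∃ w', (g : Matrix (α × β) (α × β) F) *ᵥ ten u w = ten u' w' := by
  choose a b hab' using fun w => hp u w
  have hne : ∀ w, w ≠ 0 → a w ≠ 0 ∧ b w ≠ 0 := by
    intro w hw
    have h1 : ten (a w) (b w) ≠ 0 := by
      rw [← hab']
      intro h2
      exact ten_ne_zero hu hw (gl_mulVec_eq_zero g h2)
    constructor
    · intro h2; exact h1 (by rw [h2, ten_zero_left])
    · intro h2; exact h1 (by rw [h2, ten_zero_right])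
  have hpar : ∀ w1 w2, w1 ≠ 0 → w2 ≠ 0 → (¬ ∃ c : F, a w1 = c • a w2) → ∃ c : F, b w1 = c • b w2 := by
    intro w1 w2 h1 h2 h3
    refine parallel_of_sum (hne w2 h2).1 (hne w2 h2).2 h3 (a := a (w1 + w2)) (b := b (w1 + w2)) ?_
    rw [← hab', ← hab', ← hab', ten_add_right, mulVec_add]
  have : Nonempty β := Fintype.card_pos_iff.1 (by omega)
  obtain ⟨j0⟩ := ‹Nonempty β›
  let w0 : β → F := Pi.single j0 1
  have hw0 : w0 ≠ 0 := by intro h; have := congrFun h j0; simp [w0] at this
  by_cases hall : ∀ w, w ≠ 0 → ∃ c : F, a w = c • a w0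
  · refine ⟨a w0, (hne w0 hw0).1, fun w => ?_⟩
    by_cases hw : w = 0
    · exact ⟨0, by rw [hw, ten_zero_right, ten_zero_right, mulVec_zero]⟩
    · obtain ⟨c, hc⟩ := hall w hw
      exact ⟨c • b w, by rw [hab', hc, ten_smul_left, ten_smul_right]⟩
  · exfalso
    push Not at hall
    obtain ⟨w1, hw1, h1⟩ := hall
    have h1' : ¬ ∃ c : F, a w1 = c • a w0 := by push Not; exact h1
    obtain ⟨c1, hc1⟩ := hpar w1 w0 hw1 hw0 h1'
    have hc10 : c1 ≠ 0 := by
      rintro rfl
      exact (hne w1 hw1).2 (by rw [hc1, zero_smul])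
    have hallb : ∀ w, w ≠ 0 → ∃ c : F, b w = c • b w0 := by
      intro w hw
      by_cases h2 : ∃ c : F, a w = c • a w0
      · -- then a w is not parallel to a w1
        have h3 : ¬ ∃ c : F, a w = c • a w1 := by
          rintro ⟨c, hc⟩
          obtain ⟨d, hd⟩ := h2
          have hc0 : c ≠ 0 := by rintro rfl; exact (hne w hw).1 (by rw [hc, zero_smul])
          refine h1' ⟨c⁻¹ * d, ?_⟩
          rw [mul_smul, ← hd, hc, smul_smul, inv_mul_cancel₀ hc0, one_smul]
        obtain ⟨c, hc⟩ := hpar w w1 hw hw1 h3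
        exact ⟨c * c1, by rw [hc, hc1, smul_smul]⟩
      · exact hpar w w0 hw hw0 h2
    obtain ⟨ξ, hξ⟩ := exists_dot_one (hne w0 hw0).2
    rw [dotProduct_comm] at hξ
    -- the injective map from W to U
    let f : (β → F) →ₗ[F] (α → F) := rc ξ ∘ₗ Matrix.toLin' (g : Matrix (α × β) (α × β) F) ∘ₗ
      { toFun := fun y => ten u y
        map_add' := fun x y => ten_add_right u x y
        map_smul' := fun c x => ten_smul_right c u x }
    have hf : ∀ w, f w = rc ξ ((g : Matrix (α × β) (α × β) F) *ᵥ ten u w) := by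
      intro w
      change rc ξ (Matrix.toLin' (g : Matrix (α × β) (α × β) F) (ten u w)) = _
      rw [Matrix.toLin'_apply]
    have hinj : Function.Injective f := by
      rw [← LinearMap.ker_eq_bot, LinearMap.ker_eq_bot']
      intro w hw
      by_contra hwne
      obtain ⟨c, hc⟩ := hallb w hwne
      rw [hf, hab', hc, rc_ten, dotProduct_smul, hξ, smul_eq_mul, mul_one] at hw
      rcases smul_eq_zero.1 hw with h2 | h2
      · exact (hne w hwne).2 (by rw [hc, h2, zero_smul])
      · exact (hne w hwne).1 h2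
    have h2 := LinearMap.finrank_le_finrank_of_injective hinj
    rw [Module.finrank_fintype_fun_eq_card, Module.finrank_fintype_fun_eq_card] at h2
    omega

/-- **Preservers of pure tensors.** -/
theorem mem_range_kr_of_pres [Nonempty α] (hab : Fintype.card α < Fintype.card β) {g : GL (α × β) F}
    (hp : ∀ (u : α → F) (w : β → F), ∃ (u' : α → F) (w' : β → F),
      (g : Matrix (α × β) (α × β) F) *ᵥ ten u w = ten u' w') :
    ∃ x : GL α F × GL β F, kr x = g := by
  have hs : ∀ i : α, (Pi.single i 1 : α → F) ≠ 0 := by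
    intro i h; have := congrFun h i; simp at this
  choose al hal0 hal using fun i : α => row_of_pres hab hp (hs i)
  have hφ : ∀ i, ∃ φ : α → F, φ ⬝ᵥ al i = 1 := by
    intro i
    obtain ⟨φ, h⟩ := exists_dot_one (hal0 i)
    exact ⟨φ, by rw [dotProduct_comm]; exact h⟩
  choose φ hφ1 using hφ
  let B : α → ((β → F) →ₗ[F] (β → F)) := fun i =>
    lc (φ i) ∘ₗ Matrix.toLin' (g : Matrix (α × β) (α × β) F) ∘ₗ
      { toFun := fun y => ten (Pi.single i 1) y
        map_add' := fun x y => ten_add_right _ x y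
        map_smul' := fun c x => ten_smul_right c _ x }
  have hB : ∀ i w, (g : Matrix (α × β) (α × β) F) *ᵥ ten (Pi.single i 1) w = ten (al i) (B i w) := by
    intro i w
    obtain ⟨w', hw'⟩ := hal i w
    have : B i w = w' := by
      change lc (φ i) (Matrix.toLin' (g : Matrix (α × β) (α × β) F) (ten (Pi.single i 1) w)) = w'
      rw [Matrix.toLin'_apply, hw', lc_ten, hφ1, one_smul]
    rw [this, hw']
  have hBinj : ∀ i, Function.Injective (B i) := by
    intro i
    rw [← LinearMap.ker_eq_bot, LinearMap.ker_eq_bot']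
    intro w hw
    have h1 := hB i w
    rw [hw, ten_zero_right] at h1
    rcases ten_eq_zero (gl_mulVec_eq_zero g h1) with h2 | h2
    · exact absurd h2 (hs i)
    · exact h2
  obtain ⟨i0⟩ := ‹Nonempty α›
  have hβ : Nonempty β := Fintype.card_pos_iff.1 (by omega)
  have hprop : ∀ i, ∃ d : F, ∀ w, B i w = d • B i0 w := by
    intro i
    by_cases hi : i = i0
    · exact ⟨1, fun w => by rw [hi, one_smul]⟩
    -- al i and al i0 are not parallel
    have hnp : ¬ ∃ c : F, al i = c • al i0 := by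
      rintro ⟨c, hc⟩
      obtain ⟨j0⟩ := hβ
      let w : β → F := Pi.single j0 1
      have hw : w ≠ 0 := by intro h; have := congrFun h j0; simp [w] at this
      obtain ⟨w', hw'⟩ := (LinearMap.injective_iff_surjective.1 (hBinj i0)) (c • B i w)
      have h1 : (g : Matrix (α × β) (α × β) F) *ᵥ ten (Pi.single i0 1) w' =
          (g : Matrix (α × β) (α × β) F) *ᵥ ten (Pi.single i 1) w := by
        rw [hB, hB, hw', hc, ten_smul_left, ten_smul_right]
      have h2 : ten (Pi.single i0 (1 : F)) w' - ten (Pi.single i (1 : F)) w = 0 := by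
        apply gl_mulVec_eq_zero g
        rw [mulVec_sub, h1, sub_self]
      have h3 := congrFun h2 (i, j0)
      simp [ten_apply, hi, w] at h3
    obtain ⟨u', hu'0, hu'⟩ := row_of_pres hab hp (u := Pi.single i0 1 + Pi.single i 1) (by
      intro h; have := congrFun h i0; simp [Ne.symm hi] at this)
    have hnp2 : ¬ ∃ c : F, al i0 = c • al i := by
      rintro ⟨c, hc⟩
      have hc0 : c ≠ 0 := by rintro rfl; exact hal0 i0 (by rw [hc, zero_smul])
      exact hnp ⟨c⁻¹, by rw [hc, smul_smul, inv_mul_cancel₀ hc0, one_smul]⟩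
    obtain ⟨χ, h1, h2⟩ := exists_dot_pair hnp
    obtain ⟨χ', h3, h4⟩ := exists_dot_pair hnp2
    have hrel : ∀ w, ∃ w', B i w = (χ ⬝ᵥ u') • w' ∧ B i0 w = (χ' ⬝ᵥ u') • w' := by
      intro w
      obtain ⟨w', hw'⟩ := hu' w
      refine ⟨w', ?_, ?_⟩
      · have h5 := congrArg (lc χ) hw'
        rw [ten_add_left, mulVec_add, hB, hB, map_add, lc_ten, lc_ten, lc_ten, h1, h2, one_smul,
          zero_smul, zero_add] at h5
        exact h5
      · have h5 := congrArg (lc χ') hw'
        rw [ten_add_left, mulVec_add, hB, hB, map_add, lc_ten, lc_ten, lc_ten, h3, h4, one_smul,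
          zero_smul, add_zero] at h5
        exact h5
    have hne : χ' ⬝ᵥ u' ≠ 0 := by
      intro h5
      obtain ⟨j0⟩ := hβ
      let w : β → F := Pi.single j0 1
      have hw : w ≠ 0 := by intro h; have := congrFun h j0; simp [w] at this
      obtain ⟨w', -, h6⟩ := hrel w
      rw [h5, zero_smul] at h6
      exact hw (hBinj i0 (by rw [h6, map_zero]))
    refine ⟨(χ ⬝ᵥ u') * (χ' ⬝ᵥ u')⁻¹, fun w => ?_⟩
    obtain ⟨w', h5, h6⟩ := hrel w
    rw [h5, h6, smul_smul, mul_assoc, inv_mul_cancel₀ hne, mul_one]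
  choose d hd using hprop
  let A : Matrix α α F := fun j i => d i * al i j
  let B0 : Matrix β β F := LinearMap.toMatrix' (B i0)
  have hA : ∀ i, A *ᵥ Pi.single i 1 = d i • al i := by
    intro i
    rw [mulVec_single_one]
    funext j
    rfl
  have hB0 : ∀ w, B0 *ᵥ w = B i0 w := by
    intro w
    rw [← Matrix.toLin'_apply, Matrix.toLin'_toMatrix']
  have hg : (g : Matrix (α × β) (α × β) F) = A ⊗ₖ B0 := by
    have h1 : Matrix.toLin' (g : Matrix (α × β) (α × β) F) = Matrix.toLin' (A ⊗ₖ B0) := by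
      refine LinearMap.ext fun v => ?_
      rw [eq_sum_ten v, map_sum, map_sum]
      refine Finset.sum_congr rfl fun i _ => ?_
      rw [Matrix.toLin'_apply, Matrix.toLin'_apply, hB, kron_mulVec_ten, hA, hB0, hd,
        ten_smul_left, ten_smul_right]
    exact Matrix.toLin'.injective h1
  have hdet : (g : Matrix (α × β) (α × β) F).det ≠ 0 := by
    have := (Matrix.GeneralLinearGroup.det g).ne_zero
    rwa [Matrix.GeneralLinearGroup.val_det_apply] at this
  rw [hg, det_kronecker] at hdet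
  have hcα : Fintype.card α ≠ 0 := by
    have := Fintype.card_pos_iff.2 ⟨i0⟩; omega
  have hcβ : Fintype.card β ≠ 0 := by
    have := Fintype.card_pos_iff.2 hβ; omega
  have hAdet : A.det ≠ 0 := by
    intro h; rw [h, zero_pow hcβ, zero_mul] at hdet; exact hdet rfl
  have hBdet : B0.det ≠ 0 := by
    intro h; rw [h, zero_pow hcα, mul_zero] at hdet; exact hdet rfl
  refine ⟨(Matrix.GeneralLinearGroup.mkOfDetNeZero A hAdet,
    Matrix.GeneralLinearGroup.mkOfDetNeZero B0 hBdet), ?_⟩
  apply Units.ext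
  rw [coe_kr, hg]
  rfl

end Cfsg.Agent.H872
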