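import Cfsg.Agent.H872.KronRank
import Cfsg.Agent.H871.Basic
import Cfsg.Agent.H905.SLBasic

/-!
If a subgroup `M` of `GL (α × β) F` contains `SL(α) ⊗ SL(β)` and an element `1 + Y ⊗ w ψ` with `Y` not
scalar and `ψ w = 0`, then `M` contains all transvections.
-/

set_option autoImplicit false
set_option linter.unusedSectionVars false

namespace Cfsg.Agent.H872

open Matrix Cfsg.Agent.H873
open scoped Kronecker

variable {α β : Type} [Fintype α] [DecidableEq α] [Fintype β] [DecidableEq β] {F : Type*} [Field F]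

/-! ### Vectors and functionals -/

theorem exists_dot_pair {x y : β → F} (h : ¬ ∃ c : F, x = c • y) :
    ∃ z : β → F, z ⬝ᵥ x = 1 ∧ z ⬝ᵥ y = 0 := by
  obtain ⟨φ, h1, h2⟩ := H871.exists_dot (Submodule.span F {y}) (b := x) (by
    rw [Submodule.mem_span_singleton]
    rintro ⟨c, hc⟩
    exact h ⟨c, hc.symm⟩)
  exact ⟨φ, h2, h1 y (Submodule.mem_span_singleton_self y)⟩

/-- A non-zero functional killing two vectors in dimension at least three. -/
theorem exists_kill_two (hβ : 3 ≤ Fintype.card β) (w w' : β → F) :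
    ∃ ψ : β → F, ψ ≠ 0 ∧ ψ ⬝ᵥ w = 0 ∧ ψ ⬝ᵥ w' = 0 := by
  let f : (β → F) →ₗ[F] (Fin 2 → F) := LinearMap.pi ![
    { toFun := fun ψ => ψ ⬝ᵥ w
      map_add' := fun x y => add_dotProduct _ _ _
      map_smul' := fun c x => smul_dotProduct _ _ _ },
    { toFun := fun ψ => ψ ⬝ᵥ w'
      map_add' := fun x y => add_dotProduct _ _ _
      map_smul' := fun c x => smul_dotProduct _ _ _ }]
  have hker : LinearMap.ker f ≠ ⊥ := by
    intro hbot
    have h3 := LinearMap.finrank_le_finrank_of_injective (LinearMap.ker_eq_bot.1 hbot)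
    rw [Module.finrank_fintype_fun_eq_card, Module.finrank_fintype_fun_eq_card] at h3
    simp at h3
    omega
  obtain ⟨ψ, hψ, hψ0⟩ := Submodule.exists_mem_ne_zero_of_ne_bot hker
  exact ⟨ψ, hψ0, congrFun (LinearMap.mem_ker.1 hψ) 0, congrFun (LinearMap.mem_ker.1 hψ) 1⟩

theorem exists_dot_one {ψ : β → F} (hψ : ψ ≠ 0) : ∃ y : β → F, ψ ⬝ᵥ y = 1 := by
  obtain ⟨j, hj⟩ : ∃ j, ψ j ≠ 0 := by
    by_contra hcon
    push Not at hcon
    exact hψ (funext hcon)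
  exact ⟨(ψ j)⁻¹ • Pi.single j 1, by rw [dotProduct_smul]; simp [hj]⟩

theorem exists_kill_not_mem (hβ : 3 ≤ Fintype.card β) (w ψ : β → F) :
    ∃ ψ' : β → F, ψ' ⬝ᵥ w = 0 ∧ (¬ ∃ c : F, ψ' = c • ψ) := by
  by_cases hψ : ψ = 0
  · obtain ⟨ψ', h0, h1, -⟩ := exists_kill_two (F := F) hβ w w
    refine ⟨ψ', h1, ?_⟩
    rintro ⟨c, hc⟩
    rw [hψ, smul_zero] at hc
    exact h0 hc
  · obtain ⟨y, hy⟩ := exists_dot_one hψ
    obtain ⟨ψ', h0, h1, h2⟩ := exists_kill_two (F := F) hβ w y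
    refine ⟨ψ', h1, ?_⟩
    rintro ⟨c, hc⟩
    rw [hc, smul_dotProduct, hy, smul_eq_mul, mul_one] at h2
    rw [h2, zero_smul] at hc
    exact h0 hc

/-! ### The elements `1 + Y ⊗ w ψ` -/

/-- `1 + Y ⊗ w ψ` lies in `M` and `ψ w = 0`. -/
def HasK (M : Subgroup (GL (α × β) F)) (Y : Matrix α α F) (w ψ : β → F) : Prop :=
  ψ ⬝ᵥ w = 0 ∧ ∃ g ∈ M, (g : Matrix (α × β) (α × β) F) = 1 + Y ⊗ₖ vecMulVec w ψ

theorem kron_add_mul (X : Matrix (α × β) (α × β) F) (X' : Matrix (α × β) (α × β) F)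
    (h : X * X' = 0) : (1 + X) * (1 + X') = 1 + (X + X') := by
  rw [add_mul, mul_add, mul_add, h, one_mul, one_mul, mul_one]
  abel

theorem HasK.add {M : Subgroup (GL (α × β) F)} {Y Y' : Matrix α α F} {w ψ : β → F}
    (h : HasK M Y w ψ) (h' : HasK M Y' w ψ) : HasK M (Y + Y') w ψ := by
  obtain ⟨h0, g, hg, he⟩ := h
  obtain ⟨-, g', hg', he'⟩ := h'
  refine ⟨h0, g * g', M.mul_mem hg hg', ?_⟩
  rw [Units.val_mul, he, he', kron_add_mul, add_kronecker]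
  rw [← mul_kronecker_mul, vecMulVec_mul_vecMulVec, h0]
  simp

theorem HasK.add_right {M : Subgroup (GL (α × β) F)} {Y : Matrix α α F} {w ψ ψ' : β → F}
    (h : HasK M Y w ψ) (h' : HasK M Y w ψ') : HasK M Y w (ψ + ψ') := by
  obtain ⟨h0, g, hg, he⟩ := h
  obtain ⟨h1, g', hg', he'⟩ := h'
  refine ⟨by rw [add_dotProduct, h0, h1, add_zero], g * g', M.mul_mem hg hg', ?_⟩
  rw [Units.val_mul, he, he', kron_add_mul, vecMulVec_add, kronecker_add]
  rw [← mul_kronecker_mul, vecMulVec_mul_vecMulVec, h0]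
  simp

theorem HasK.add_left {M : Subgroup (GL (α × β) F)} {Y : Matrix α α F} {w w' ψ : β → F}
    (h : HasK M Y w ψ) (h' : HasK M Y w' ψ) : HasK M Y (w + w') ψ := by
  obtain ⟨h0, g, hg, he⟩ := h
  obtain ⟨h1, g', hg', he'⟩ := h'
  refine ⟨by rw [dotProduct_add, h0, h1, add_zero], g * g', M.mul_mem hg hg', ?_⟩
  rw [Units.val_mul, he, he', kron_add_mul, add_vecMulVec, kronecker_add]
  rw [← mul_kronecker_mul, vecMulVec_mul_vecMulVec, h1]
  simp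

theorem HasK.neg {M : Subgroup (GL (α × β) F)} {Y : Matrix α α F} {w ψ : β → F}
    (h : HasK M Y w ψ) : HasK M (-Y) w ψ := by
  obtain ⟨h0, g, hg, he⟩ := h
  refine ⟨h0, g⁻¹, M.inv_mem hg, ?_⟩
  have h1 : (g : Matrix (α × β) (α × β) F) * (1 + (-Y) ⊗ₖ vecMulVec w ψ) = 1 := by
    rw [he, kron_add_mul, ← add_kronecker, add_neg_cancel, zero_kronecker, add_zero]
    rw [← mul_kronecker_mul, vecMulVec_mul_vecMulVec, h0]
    simp
  calc ((g⁻¹ : GL (α × β) F) : Matrix (α × β) (α × β) F)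
      = ((g⁻¹ : GL (α × β) F) : Matrix (α × β) (α × β) F) *
        ((g : Matrix (α × β) (α × β) F) * (1 + (-Y) ⊗ₖ vecMulVec w ψ)) := by rw [h1, mul_one]
    _ = _ := by
      rw [← mul_assoc, ← Units.val_mul, inv_mul_cancel, Units.val_one, one_mul]

theorem hasK_smul_iff {M : Subgroup (GL (α × β) F)} {Y : Matrix α α F} {w ψ : β → F} (c : F)
    (h0 : ψ ⬝ᵥ w = 0) : HasK M Y w (c • ψ) ↔ HasK M (c • Y) w ψ := by
  unfold HasK
  rw [smul_dotProduct, h0, vecMulVec_smul, kronecker_smul, smul_kronecker]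
  simp

theorem hasK_smul_iff' {M : Subgroup (GL (α × β) F)} {Y : Matrix α α F} {w ψ : β → F} (c : F)
    (h0 : ψ ⬝ᵥ w = 0) : HasK M Y (c • w) ψ ↔ HasK M (c • Y) w ψ := by
  unfold HasK
  rw [dotProduct_smul, h0, smul_vecMulVec, kronecker_smul, smul_kronecker]
  simp

theorem HasK.neg_right {M : Subgroup (GL (α × β) F)} {Y : Matrix α α F} {w ψ : β → F}
    (h : HasK M Y w ψ) : HasK M Y w (-ψ) := by
  have h1 := h.neg
  rw [← neg_one_smul F Y, ← hasK_smul_iff _ h.1, neg_one_smul] at h1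
  exact h1

theorem HasK.neg_left {M : Subgroup (GL (α × β) F)} {Y : Matrix α α F} {w ψ : β → F}
    (h : HasK M Y w ψ) : HasK M Y (-w) ψ := by
  have h1 := h.neg
  rw [← neg_one_smul F Y, ← hasK_smul_iff' _ h.1, neg_one_smul] at h1
  exact h1

theorem HasK.conj {M : Subgroup (GL (α × β) F)} {Y : Matrix α α F} {w ψ : β → F}
    (h : HasK M Y w ψ) {A : GL α F} {B : GL β F} (hAB : kr (A, B) ∈ M) :
    HasK M ((A : Matrix α α F) * Y * ((A⁻¹ : GL α F) : Matrix α α F)) ((B : Matrix β β F) *ᵥ w)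
      (ψ ᵥ* ((B⁻¹ : GL β F) : Matrix β β F)) := by
  obtain ⟨h0, g, hg, he⟩ := h
  refine ⟨?_, kr (A, B) * g * (kr (A, B))⁻¹, M.mul_mem (M.mul_mem hAB hg) (M.inv_mem hAB), ?_⟩
  · rw [← dotProduct_mulVec, mulVec_mulVec, ← Units.val_mul, inv_mul_cancel, Units.val_one,
      one_mulVec, h0]
  · rw [Units.val_mul, Units.val_mul, he, mul_add, add_mul, mul_one, ← Units.val_mul,
      mul_inv_cancel, Units.val_one, ← map_inv, coe_kr, coe_kr, ← mul_kronecker_mul,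
      ← mul_kronecker_mul, mul_vecMulVec, vecMulVec_mul]
    rfl

section

variable {M : Subgroup (GL (α × β) F)}
  (hM : ∀ (A : GL α F) (B : GL β F), (A : Matrix α α F).det = 1 → (B : Matrix β β F).det = 1 →
    kr (A, B) ∈ M)

include hM

theorem kr_one_tv_mem {w ψ : β → F} (h : ψ ⬝ᵥ w = 0) : kr ((1 : GL α F), tv w ψ h) ∈ M :=
  hM _ _ (by simp) (by rw [coe_tv]; exact det_tv w ψ h)

theorem kr_tv_one_mem {u φ : α → F} (h : φ ⬝ᵥ u = 0) : kr (tv u φ h, (1 : GL β F)) ∈ M :=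
  hM _ _ (by rw [coe_tv]; exact det_tv u φ h) (by simp)

/-- conjugation by `1 ⊗ (1 + w' ψ')`. -/
theorem HasK.conj_tv {Y : Matrix α α F} {w ψ : β → F} (h : HasK M Y w ψ) {w' ψ' : β → F}
    (h' : ψ' ⬝ᵥ w' = 0) : HasK M Y (w + (ψ' ⬝ᵥ w) • w') (ψ - (ψ ⬝ᵥ w') • ψ') := by
  have h1 := h.conj (kr_one_tv_mem hM h')
  rw [tv_mulVec] at h1
  have h2 : ψ ᵥ* (((tv w' ψ' h')⁻¹ : GL β F) : Matrix β β F) = ψ - (ψ ⬝ᵥ w') • ψ' := by
    change ψ ᵥ* (1 - vecMulVec w' ψ') = _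
    rw [vecMul_sub, vecMul_one, vecMul_vecMulVec]
  rw [h2] at h1
  simpa using h1

/-- conjugation by `(1 + u φ) ⊗ 1`. -/
theorem HasK.conj_tv' {Y : Matrix α α F} {w ψ : β → F} (h : HasK M Y w ψ) {u φ : α → F}
    (h' : φ ⬝ᵥ u = 0) : HasK M ((1 + vecMulVec u φ) * Y * (1 - vecMulVec u φ)) w ψ := by
  have h1 := h.conj (kr_tv_one_mem hM h')
  have h2 : (((tv u φ h')⁻¹ : GL α F) : Matrix α α F) = 1 - vecMulVec u φ := rfl
  rw [h2, coe_tv] at h1
  simpa using h1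

theorem HasK.change_psi_aux {Y : Matrix α α F} {w ψ ψ' : β → F} (h : HasK M Y w ψ)
    (h0 : ψ' ⬝ᵥ w = 0) (hne : ¬ ∃ c : F, ψ = c • ψ') : HasK M Y w ψ' := by
  obtain ⟨z, hz1, hz2⟩ := exists_dot_pair hne
  have h1 := HasK.conj_tv hM h (w' := z) (ψ' := ψ') (by rw [dotProduct_comm]; exact hz2)
  rw [h0, zero_smul, add_zero, dotProduct_comm ψ z, hz1, one_smul] at h1
  have h2 := h1.add_right h.neg_right
  have h3 := h2.neg_right
  convert h3 using 1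
  abel

theorem HasK.change_w_aux {Y : Matrix α α F} {w w' ψ : β → F} (h : HasK M Y w ψ)
    (h0 : ψ ⬝ᵥ w' = 0) (hne : ¬ ∃ c : F, w = c • w') : HasK M Y w' ψ := by
  obtain ⟨z, hz1, hz2⟩ := exists_dot_pair hne
  have h1 := HasK.conj_tv hM h (w' := w') (ψ' := z) hz2
  rw [h0, zero_smul, sub_zero, hz1, one_smul] at h1
  have h2 := h1.add_left h.neg_left
  convert h2 using 1
  abel

theorem HasK.change_psi (hβ : 3 ≤ Fintype.card β) {Y : Matrix α α F} {w ψ ψ' : β → F}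
    (hψ : ψ ≠ 0) (h : HasK M Y w ψ) (h0 : ψ' ⬝ᵥ w = 0) : HasK M Y w ψ' := by
  by_cases hψ' : ψ' = 0
  · subst hψ'
    exact ⟨h0, 1, M.one_mem, by simp⟩
  · by_cases hne : ∃ c : F, ψ = c • ψ'
    · obtain ⟨ψ1, h1, h2⟩ := exists_kill_not_mem hβ w ψ
      have h3 : ¬ ∃ c : F, ψ = c • ψ1 := by
        rintro ⟨c, hc⟩
        have hc0 : c ≠ 0 := by rintro rfl; exact hψ (by simpa using hc)
        exact h2 ⟨c⁻¹, by rw [hc, smul_smul, inv_mul_cancel₀ hc0, one_smul]⟩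
      have h4 := HasK.change_psi_aux hM h h1 h3
      refine HasK.change_psi_aux hM h4 h0 ?_
      rintro ⟨c, hc⟩
      obtain ⟨d, hd⟩ := hne
      have hd0 : d ≠ 0 := by rintro rfl; exact hψ (by simpa using hd)
      exact h2 ⟨c * d⁻¹, by rw [hc, hd, smul_smul, mul_assoc, inv_mul_cancel₀ hd0, mul_one]⟩
    · exact HasK.change_psi_aux hM h h0 hne

theorem HasK.change_w (hβ : 3 ≤ Fintype.card β) {Y : Matrix α α F} {w w' ψ : β → F}
    (hw : w ≠ 0) (h : HasK M Y w ψ) (h0 : ψ ⬝ᵥ w' = 0) : HasK M Y w' ψ := by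
  by_cases hw' : w' = 0
  · subst hw'
    exact ⟨h0, 1, M.one_mem, by simp⟩
  · by_cases hne : ∃ c : F, w = c • w'
    · obtain ⟨w1, h1, h2⟩ := exists_kill_not_mem hβ ψ w
      rw [dotProduct_comm] at h1
      have h3 : ¬ ∃ c : F, w = c • w1 := by
        rintro ⟨c, hc⟩
        have hc0 : c ≠ 0 := by rintro rfl; exact hw (by simpa using hc)
        exact h2 ⟨c⁻¹, by rw [hc, smul_smul, inv_mul_cancel₀ hc0, one_smul]⟩
      have h4 := HasK.change_w_aux hM h h1 h3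
      refine HasK.change_w_aux hM h4 h0 ?_
      rintro ⟨c, hc⟩
      obtain ⟨d, hd⟩ := hne
      have hd0 : d ≠ 0 := by rintro rfl; exact hw (by simpa using hd)
      exact h2 ⟨c * d⁻¹, by rw [hc, hd, smul_smul, mul_assoc, inv_mul_cancel₀ hd0, mul_one]⟩
    · exact HasK.change_w_aux hM h h0 hne

theorem HasK.all (hβ : 3 ≤ Fintype.card β) {Y : Matrix α α F} {w ψ : β → F}
    (hw : w ≠ 0) (hψ : ψ ≠ 0) (h : HasK M Y w ψ) :
    ∀ w' ψ' : β → F, ψ' ⬝ᵥ w' = 0 → HasK M Y w' ψ' := by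
  intro w' ψ' h0
  obtain ⟨ψ1, h1, h2, h3⟩ := exists_kill_two (F := F) hβ w w'
  exact HasK.change_psi hM hβ h1 (HasK.change_w hM hβ hw (HasK.change_psi hM hβ hψ h h2) h3) h0

end

/-- All `1 + Y ⊗ w ψ` with `ψ w = 0` lie in `M`. -/
def AllK (M : Subgroup (GL (α × β) F)) (Y : Matrix α α F) : Prop :=
  ∀ w ψ : β → F, ψ ⬝ᵥ w = 0 → HasK M Y w ψ

theorem AllK.add {M : Subgroup (GL (α × β) F)} {Y Y' : Matrix α α F} (h : AllK M Y)
    (h' : AllK M Y') : AllK M (Y + Y') := fun w ψ h0 => (h w ψ h0).add (h' w ψ h0)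

theorem AllK.neg {M : Subgroup (GL (α × β) F)} {Y : Matrix α α F} (h : AllK M Y) :
    AllK M (-Y) := fun w ψ h0 => (h w ψ h0).neg

theorem AllK.sub {M : Subgroup (GL (α × β) F)} {Y Y' : Matrix α α F} (h : AllK M Y)
    (h' : AllK M Y') : AllK M (Y - Y') := by
  rw [sub_eq_add_neg]; exact h.add h'.neg

theorem AllK.smul {M : Subgroup (GL (α × β) F)} {Y : Matrix α α F} (h : AllK M Y) (c : F) :
    AllK M (c • Y) := fun w ψ h0 => (hasK_smul_iff c h0).1 (h w (c • ψ) (by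
      rw [smul_dotProduct, h0, smul_zero]))

section

variable {M : Subgroup (GL (α × β) F)}
  (hM : ∀ (A : GL α F) (B : GL β F), (A : Matrix α α F).det = 1 → (B : Matrix β β F).det = 1 →
    kr (A, B) ∈ M)

include hM

theorem AllK.conj {Y : Matrix α α F} (h : AllK M Y) {A : GL α F}
    (hA : (A : Matrix α α F).det = 1) :
    AllK M ((A : Matrix α α F) * Y * ((A⁻¹ : GL α F) : Matrix α α F)) := by
  intro w ψ h0
  have h1 := (h w ψ h0).conj (hM A 1 hA (by simp))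
  simpa using h1

theorem AllK.conj_tv {Y : Matrix α α F} (h : AllK M Y) {u φ : α → F} (h' : φ ⬝ᵥ u = 0) :
    AllK M ((1 + vecMulVec u φ) * Y * (1 - vecMulVec u φ)) :=
  fun w ψ h0 => HasK.conj_tv' hM (h w ψ h0) h'

/-- The commutator with `1 + u φ`. -/
theorem AllK.comm_tv {Y : Matrix α α F} (h : AllK M Y) {u φ : α → F} (h' : φ ⬝ᵥ u = 0) :
    AllK M (vecMulVec u (φ ᵥ* Y) - vecMulVec (Y *ᵥ u) φ - (φ ⬝ᵥ (Y *ᵥ u)) • vecMulVec u φ) := by
  have h1 := (AllK.conj_tv hM h h').sub h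
  convert h1 using 1
  have h2 : vecMulVec u φ * Y * vecMulVec u φ = (φ ⬝ᵥ (Y *ᵥ u)) • vecMulVec u φ := by
    rw [vecMulVec_mul, vecMulVec_mul_vecMulVec, ← dotProduct_mulVec, vecMulVec_smul]
  calc vecMulVec u (φ ᵥ* Y) - vecMulVec (Y *ᵥ u) φ - (φ ⬝ᵥ (Y *ᵥ u)) • vecMulVec u φ
      = vecMulVec u φ * Y - Y * vecMulVec u φ - vecMulVec u φ * Y * vecMulVec u φ := by
        rw [h2, vecMulVec_mul, mul_vecMulVec]
    _ = _ := by noncomm_ring

/-- From a non-scalar `Y` to a rank one nilpotent. -/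
theorem exists_rankOne {Y : Matrix α α F} (h : AllK M Y)
    (hY : ¬ ∃ c : F, Y = c • (1 : Matrix α α F))
    (hF : 3 ≤ Fintype.card α ∨ ∃ t : F, t ≠ 0 ∧ t ≠ 1) :
    ∃ u φ : α → F, u ≠ 0 ∧ φ ≠ 0 ∧ φ ⬝ᵥ u = 0 ∧ AllK M (vecMulVec u φ) := by
  have h1 : ∃ u φ : α → F, φ ⬝ᵥ u = 0 ∧ φ ⬝ᵥ (Y *ᵥ u) ≠ 0 := by
    by_contra hcon
    push Not at hcon
    exact hY (exists_scalar_of_dual hcon)
  obtain ⟨u, φ, hφu, hc⟩ := h1
  set c := φ ⬝ᵥ (Y *ᵥ u) with hcdef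
  have hu : u ≠ 0 := by rintro rfl; rw [hcdef, mulVec_zero, dotProduct_zero] at hc; exact hc rfl
  have hφ : φ ≠ 0 := by rintro rfl; rw [hcdef, zero_dotProduct] at hc; exact hc rfl
  have hD := AllK.comm_tv hM h hφu
  rw [← hcdef] at hD
  by_cases ht : ∃ t : F, t ≠ 0 ∧ t ≠ 1
  · obtain ⟨t, ht0, ht1⟩ := ht
    have hDt := AllK.comm_tv hM h (u := t • u) (φ := φ) (by rw [dotProduct_smul, hφu, smul_zero])
    have h2 := (hD.smul t).sub hDt
    have h3 : t • (vecMulVec u (φ ᵥ* Y) - vecMulVec (Y *ᵥ u) φ - c • vecMulVec u φ) -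
        (vecMulVec (t • u) (φ ᵥ* Y) - vecMulVec (Y *ᵥ (t • u)) φ -
          (φ ⬝ᵥ (Y *ᵥ (t • u))) • vecMulVec (t • u) φ) = ((t ^ 2 - t) * c) • vecMulVec u φ := by
      rw [mulVec_smul, dotProduct_smul, ← hcdef]
      ext i j
      simp only [Matrix.sub_apply, Matrix.smul_apply, vecMulVec_apply, Pi.smul_apply, smul_eq_mul]
      ring
    rw [h3] at h2
    have h4 : (t ^ 2 - t) * c ≠ 0 := by
      refine mul_ne_zero ?_ hc
      have : t ^ 2 - t = t * (t - 1) := by ring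
      rw [this]
      exact mul_ne_zero ht0 (sub_ne_zero.2 ht1)
    refine ⟨u, φ, hu, hφ, hφu, ?_⟩
    have h5 := h2.smul ((t ^ 2 - t) * c)⁻¹
    rwa [smul_smul, inv_mul_cancel₀ h4, one_smul] at h5
  · have hα : 3 ≤ Fintype.card α := hF.resolve_right ht
    -- D = u α₁ - v φ with α₁ = φ Y - c φ, v = Y u
    set D : Matrix α α F := vecMulVec u (φ ᵥ* Y) - vecMulVec (Y *ᵥ u) φ - c • vecMulVec u φ
      with hDdef
    -- a vector killed by D
    obtain ⟨u', hu'0, hu'1, hu'2⟩ := exists_kill_two (F := F) hα φ (φ ᵥ* Y)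
    rw [dotProduct_comm] at hu'1 hu'2
    have hDu' : D *ᵥ u' = 0 := by
      rw [hDdef, sub_mulVec, sub_mulVec, smul_mulVec, vecMulVec_mulVec, vecMulVec_mulVec,
        vecMulVec_mulVec, hu'1, hu'2]
      simp
    -- u is not a multiple of u'
    have hne : ¬ ∃ d : F, u = d • u' := by
      rintro ⟨d, hd⟩
      have h2 : c = 0 := by
        rw [hcdef, dotProduct_mulVec, hd, dotProduct_smul, hu'2, smul_zero]
      exact hc h2
    obtain ⟨φ', hφ'1, hφ'2⟩ := exists_dot_pair hne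
    have h2 := AllK.comm_tv hM hD hφ'2
    rw [hDu', zero_vecMulVec, dotProduct_zero, zero_smul, sub_zero, sub_zero] at h2
    refine ⟨u', φ' ᵥ* D, hu'0, ?_, ?_, h2⟩
    · intro h3
      have h4 : (φ' ᵥ* D) ⬝ᵥ u = 0 := by rw [h3, zero_dotProduct]
      rw [← dotProduct_mulVec, hDdef, sub_mulVec, sub_mulVec, smul_mulVec, vecMulVec_mulVec,
        vecMulVec_mulVec, vecMulVec_mulVec, hφu, ← dotProduct_mulVec, ← hcdef] at h4
      simp [dotProduct_smul, hφ'1] at h4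
      exact hc h4
    · rw [← dotProduct_mulVec, hDu', dotProduct_zero]

end

end Cfsg.Agent.H872
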