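import Mathlib

/-!
# Fields of matrices of maximal degree (helper872)

`σ : E →ₐ[F] Matrix ι ι F` with `E` a field, `finrank F E = card ι`.
-/

set_option autoImplicit false

namespace Cfsg.Agent.H872.Sing

open Matrix

variable {ι : Type} [Fintype ι] [DecidableEq ι] {F : Type*} [Field F] {E : Type*} [Field E] [Algebra F E]
  (σ : E →ₐ[F] Matrix ι ι F)

/-- evaluation at a vector -/
noncomputable def ev (v : ι → F) : E →ₗ[F] (ι → F) where
  toFun e := σ e *ᵥ v
  map_add' a b := by rw [map_add, Matrix.add_mulVec]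
  map_smul' c a := by rw [map_smul, Matrix.smul_mulVec]; rfl

theorem ev_apply (v : ι → F) (e : E) : ev σ v e = σ e *ᵥ v := rfl

theorem ev_injective {v : ι → F} (hv : v ≠ 0) : Function.Injective (ev σ v) := by
  rw [injective_iff_map_eq_zero]
  intro e he
  by_contra he0
  apply hv
  have he' : σ e *ᵥ v = 0 := he
  have h1 : σ (e⁻¹ * e) *ᵥ v = 0 := by
    rw [map_mul, ← mulVec_mulVec, he', mulVec_zero]
  rwa [inv_mul_cancel₀ he0, map_one, one_mulVec] at h1

/-- evaluation is an isomorphism -/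
noncomputable def evEquiv [FiniteDimensional F E] (hE : Module.finrank F E = Fintype.card ι) {v : ι → F}
    (hv : v ≠ 0) : E ≃ₗ[F] (ι → F) :=
  LinearMap.linearEquivOfInjective (ev σ v) (ev_injective σ hv) (by rw [hE, Module.finrank_fintype_fun_eq_card])

theorem evEquiv_apply [FiniteDimensional F E] (hE : Module.finrank F E = Fintype.card ι) {v : ι → F}
    (hv : v ≠ 0) (e : E) : evEquiv σ hE hv e = σ e *ᵥ v := rfl

theorem exists_ev [FiniteDimensional F E] (hE : Module.finrank F E = Fintype.card ι) {v : ι → F}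
    (hv : v ≠ 0) (w : ι → F) : ∃ e : E, σ e *ᵥ v = w :=
  ⟨(evEquiv σ hE hv).symm w, (evEquiv σ hE hv).apply_symm_apply w⟩

omit [Fintype ι] in
theorem exists_ne_zero [Nonempty ι] : ∃ v : ι → F, v ≠ 0 := by
  obtain ⟨i⟩ := (inferInstance : Nonempty ι)
  exact ⟨Pi.single i 1, by simp⟩

/-- the field is its own centraliser -/
theorem mem_of_commute [Nonempty ι] [FiniteDimensional F E] (hE : Module.finrank F E = Fintype.card ι)
    {g : Matrix ι ι F} (hg : ∀ e, g * σ e = σ e * g) : ∃ k, σ k = g := by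
  obtain ⟨v, hv⟩ := exists_ne_zero (ι := ι) (F := F)
  obtain ⟨k, hk⟩ := exists_ev σ hE hv (g *ᵥ v)
  refine ⟨k, ?_⟩
  apply Matrix.mulVec_injective
  funext w
  obtain ⟨e, rfl⟩ := exists_ev σ hE hv w
  rw [mulVec_mulVec, mulVec_mulVec, hg, ← map_mul, mul_comm k e, map_mul, ← mulVec_mulVec, hk, mulVec_mulVec]

/-- a subalgebra containing a nonscalar element is everything, in prime degree -/
theorem adjoin_top [FiniteDimensional F E] (hp : (Module.finrank F E).Prime) {e : E}
    (he : e ∉ Set.range (algebraMap F E)) : Algebra.adjoin F {e} = ⊤ := by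
  have := Subalgebra.isSimpleOrder_of_finrank_prime F E hp
  rcases eq_bot_or_eq_top (Algebra.adjoin F {e}) with h | h
  · exfalso
    apply he
    have h1 : e ∈ Algebra.adjoin F {e} := Algebra.self_mem_adjoin_singleton F e
    rw [h, Algebra.mem_bot] at h1
    exact h1
  · exact h

theorem commute_all [FiniteDimensional F E] (hp : (Module.finrank F E).Prime) {e : E}
    (he : e ∉ Set.range (algebraMap F E)) {g : Matrix ι ι F} (hg : g * σ e = σ e * g) (k : E) :
    g * σ k = σ k * g := by
  have h1 : k ∈ Algebra.adjoin F {e} := by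
    rw [adjoin_top hp he]
    trivial
  have h2 : Algebra.adjoin F {e} ≤ (Subalgebra.centralizer F {g}).comap σ := by
    rw [Algebra.adjoin_le_iff, Set.singleton_subset_iff]
    intro x hx
    rw [Set.mem_singleton_iff] at hx
    rw [hx]
    exact hg
  have h3 := h2 h1
  exact h3 g rfl

/-- the centraliser of a nonscalar element is the field -/
theorem mem_of_commute_single [Nonempty ι] [FiniteDimensional F E] (hE : Module.finrank F E = Fintype.card ι)
    (hp : (Module.finrank F E).Prime) {e : E} (he : e ∉ Set.range (algebraMap F E)) {g : Matrix ι ι F}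
    (hg : g * σ e = σ e * g) : ∃ k, σ k = g :=
  mem_of_commute σ hE (commute_all σ hp he hg)

/-- the determinant is the norm -/
theorem det_eq_norm [Nonempty ι] [FiniteDimensional F E] (hE : Module.finrank F E = Fintype.card ι) (e : E) :
    (σ e).det = Algebra.norm F e := by
  obtain ⟨v, hv⟩ := exists_ne_zero (ι := ι) (F := F)
  rw [Algebra.norm_apply, ← LinearMap.det_toLin', ← LinearMap.det_conj (Algebra.lmul F E e) (evEquiv σ hE hv)]
  congr 1
  apply LinearMap.ext
  intro w
  obtain ⟨k, rfl⟩ := exists_ev σ hE hv w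
  rw [LinearMap.comp_apply, LinearMap.comp_apply, Matrix.toLin'_apply, mulVec_mulVec, ← map_mul]
  have : (evEquiv σ hE hv).symm (σ k *ᵥ v) = k := by
    rw [← evEquiv_apply σ hE hv, LinearEquiv.symm_apply_apply]
  simp only [LinearEquiv.coe_coe]
  rw [this]
  rfl

/-- algebra automorphisms are induced by conjugation -/
theorem exists_conj [Nonempty ι] [FiniteDimensional F E] (hE : Module.finrank F E = Fintype.card ι) (τ : E ≃ₐ[F] E) :
    ∃ φ : GL ι F, ∀ k, (φ : Matrix ι ι F) * σ k * ((φ⁻¹ : GL ι F) : Matrix ι ι F) = σ (τ k) := by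
  obtain ⟨v, hv⟩ := exists_ne_zero (ι := ι) (F := F)
  let f : (ι → F) ≃ₗ[F] (ι → F) := ((evEquiv σ hE hv).symm.trans τ.toLinearEquiv).trans (evEquiv σ hE hv)
  have hf : ∀ k, f (σ k *ᵥ v) = σ (τ k) *ᵥ v := by
    intro k
    have : (evEquiv σ hE hv).symm (σ k *ᵥ v) = k := by
      rw [← evEquiv_apply σ hE hv, LinearEquiv.symm_apply_apply]
    change evEquiv σ hE hv (τ ((evEquiv σ hE hv).symm (σ k *ᵥ v))) = _
    rw [this]
    rfl
  let φ : GL ι F := ⟨LinearMap.toMatrix' f, LinearMap.toMatrix' f.symm, by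
    rw [← LinearMap.toMatrix'_comp]; simp, by rw [← LinearMap.toMatrix'_comp]; simp⟩
  have hφ : ∀ w, (φ : Matrix ι ι F) *ᵥ w = f w := by
    intro w
    change LinearMap.toMatrix' (f : (ι → F) →ₗ[F] (ι → F)) *ᵥ w = f w
    rw [← Matrix.toLin'_apply, Matrix.toLin'_toMatrix']
    rfl
  refine ⟨φ, fun k => ?_⟩
  have h1 : (φ : Matrix ι ι F) * σ k = σ (τ k) * (φ : Matrix ι ι F) := by
    apply Matrix.mulVec_injective
    funext w
    obtain ⟨e, rfl⟩ := exists_ev σ hE hv w
    rw [mulVec_mulVec, mul_assoc, ← map_mul, ← mulVec_mulVec, hφ, hf, map_mul, map_mul, ← mulVec_mulVec (v := σ e *ᵥ v),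
      hφ, hf, mulVec_mulVec]
  rw [h1, mul_assoc, ← Units.val_mul, mul_inv_cancel, Units.val_one, mul_one]

end Cfsg.Agent.H872.Sing
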