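import Mathlib
import Cfsg.Agent.H907.Main
import Cfsg.Agent.H872.SingSL

/-!
# The overgroups of the normaliser of a Singer torus in prime degree: the easy cases (helper872)
-/

set_option autoImplicit false

namespace Cfsg.Agent.H872

open Subgroup

theorem RelAuto.le_prime {G : Type*} [Group G] {H C : Subgroup G} {n : ℕ} (h : RelAuto H C n)
    {s : ℕ} (hs : s.Prime) (hd : s ∣ Nat.card C) : 2 * n + 1 ≤ s := by
  refine h.toAuto.le_prime hs ?_
  rwa [Nat.card_congr (subgroupOfEquivOfLe h.le).toEquiv]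

theorem RelAuto.exists_prime {G : Type*} [Group G] {H C : Subgroup G} {n : ℕ}
    (h : RelAuto H C n) : ∃ s : ℕ, s.Prime ∧ s ∣ Nat.card C := by
  apply Nat.exists_prime_and_dvd
  intro h1
  have h2 := h.big
  have h3 := h.ge
  omega

end Cfsg.Agent.H872

namespace Cfsg.Agent.H872.Sing

open Matrix Cfsg.Geo Subgroup Cfsg.Agent.H907
open scoped MatrixGroups

variable {ι : Type} [Fintype ι] [DecidableEq ι] {F : Type*} [Field F] {E : Type*} [Field E] [Algebra F E]
  (σ : E →ₐ[F] Matrix ι ι F)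

theorem scalar_conj {g z : GL ι F} (hz : z ∈ scalars ι F) : g * z * g⁻¹ = z := by
  rw [← comm_of_scalar hz g]
  group

/-- conjugation as a linear map -/
def conjL (g : GL ι F) : Matrix ι ι F →ₗ[F] Matrix ι ι F where
  toFun := fun m => (g : Matrix ι ι F) * m * ((g⁻¹ : GL ι F) : Matrix ι ι F)
  map_add' := fun a b => by rw [mul_add, add_mul]
  map_smul' := fun a b => by rw [mul_smul_comm, smul_mul_assoc]; rfl

theorem conjL_apply (g : GL ι F) (m : Matrix ι ι F) :
    conjL g m = (g : Matrix ι ι F) * m * ((g⁻¹ : GL ι F) : Matrix ι ι F) := rfl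

theorem norm_of_forall {g : GL ι F}
    (hg : ∀ k, ∃ k', (g : Matrix ι ι F) * σ k * ((g⁻¹ : GL ι F) : Matrix ι ι F) = σ k') :
    g ∈ subalgebraNormalizer σ.range := by
  have hinj : Function.Injective (conjL g) := by
    intro a b hab
    rw [conjL_apply, conjL_apply] at hab
    have h2 := congrArg (fun m => ((g⁻¹ : GL ι F) : Matrix ι ι F) * m * (g : Matrix ι ι F)) hab
    have h3 : ∀ a : Matrix ι ι F, ((g⁻¹ : GL ι F) : Matrix ι ι F) *
        ((g : Matrix ι ι F) * a * ((g⁻¹ : GL ι F) : Matrix ι ι F)) * (g : Matrix ι ι F) = a := by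
      intro a
      rw [← mul_assoc, ← mul_assoc, ← Units.val_mul, inv_mul_cancel, Units.val_one, one_mul, mul_assoc,
        ← Units.val_mul, inv_mul_cancel, Units.val_one, mul_one]
    simp only [h3] at h2
    exact h2
  have hle : (Subalgebra.toSubmodule σ.range).map (conjL g) ≤ Subalgebra.toSubmodule σ.range := by
    rintro _ ⟨_, ⟨k, rfl⟩, rfl⟩
    obtain ⟨k', hk'⟩ := hg k
    exact ⟨k', hk'.symm⟩
  have heq : (Subalgebra.toSubmodule σ.range).map (conjL g) = Subalgebra.toSubmodule σ.range :=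
    Submodule.eq_of_le_of_finrank_eq hle (LinearEquiv.finrank_eq (Submodule.equivMapOfInjective _ hinj _)).symm
  intro m
  constructor
  · rintro ⟨k, rfl⟩
    obtain ⟨k', hk'⟩ := hg k
    exact ⟨k', hk'.symm⟩
  · intro hm
    have h1 : conjL g m ∈ Subalgebra.toSubmodule σ.range := hm
    rw [← heq] at h1
    obtain ⟨m', hm', hmm'⟩ := h1
    have : m' = m := hinj hmm'
    rw [← this]
    exact hm'

theorem forall_of_norm {g : GL ι F} (hg : g ∈ subalgebraNormalizer σ.range) (k : E) :
    ∃ k', (g : Matrix ι ι F) * σ k * ((g⁻¹ : GL ι F) : Matrix ι ι F) = σ k' := by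
  obtain ⟨k', hk'⟩ := (hg (σ k)).1 ⟨k, rfl⟩
  exact ⟨k', hk'.symm⟩

section Finite

variable [Fintype F] [FiniteDimensional F E]

/-- the image of the normaliser -/
theorem map_norm {n : ℕ} (hn : n.Prime) (hn11 : 11 ≤ n) (hι : Fintype.card ι = n) (hE : Module.finrank F E = n) :
    (subalgebraNormalizer σ.range ⊓ specialLinear ι F).map (pr ι F) =
      normalizer (((tor σ).map (pr ι F) : Subgroup (GL ι F ⧸ scalars ι F)) : Set (GL ι F ⧸ scalars ι F)) ⊓
      (specialLinear ι F).map (pr ι F) := by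
  have : Nonempty ι := by
    rw [← Fintype.card_pos_iff]
    omega
  apply le_antisymm
  · rintro _ ⟨g, ⟨hg1, hg2⟩, rfl⟩
    refine ⟨?_, g, hg2, rfl⟩
    apply mem_normalizer_of_finite
    rintro _ ⟨_, ⟨⟨u, rfl⟩, huS⟩, rfl⟩
    rw [← map_inv, ← map_mul, ← map_mul]
    refine ⟨g * uG σ u * g⁻¹, ⟨?_, ?_⟩, rfl⟩
    · obtain ⟨k', hk'⟩ := forall_of_norm σ hg1 u
      exact mem_range_uG σ (k := k') (by rw [← hk']; rfl)
    · exact (specialLinear ι F).mul_mem ((specialLinear ι F).mul_mem hg2 huS) ((specialLinear ι F).inv_mem hg2)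
  · exact normalizer_le σ hn hn11 hι hE (fun g hg h => ⟨norm_of_forall σ h, hg⟩)

/-- the order of the normaliser -/
theorem card_norm {n : ℕ} (hn : n.Prime) (hn11 : 11 ≤ n) (hι : Fintype.card ι = n) (hE : Module.finrank F E = n) :
    Nat.card (subalgebraNormalizer σ.range ⊓ specialLinear ι F : Subgroup (GL ι F)) * (Fintype.card F - 1) =
      n * (Fintype.card F ^ n - 1) := by
  classical
  have : Nonempty ι := by
    rw [← Fintype.card_pos_iff]
    omega
  have hR := relAuto_sl σ hn hn11 hι hE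
  have h1 := card_map_mul (pr ι F) (subalgebraNormalizer σ.range ⊓ specialLinear ι F)
  have h2 : ((pr ι F).ker ⊓ (subalgebraNormalizer σ.range ⊓ specialLinear ι F) : Subgroup (GL ι F)) =
      scalars ι F ⊓ specialLinear ι F := by
    rw [QuotientGroup.ker_mk']
    apply le_antisymm
    · exact inf_le_inf_left _ inf_le_right
    · rintro g ⟨hg1, hg2⟩
      refine ⟨hg1, norm_of_forall σ (fun k => ⟨k, ?_⟩), hg2⟩
      obtain ⟨c, hc⟩ := (mem_scalars_iff g).1 hg1
      have h3 : (g : Matrix ι ι F) * σ k = σ k * (g : Matrix ι ι F) := by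
        rw [hc, smul_mul_assoc, one_mul, mul_smul_comm, mul_one]
      rw [h3, mul_assoc, ← Units.val_mul, mul_inv_cancel, Units.val_one, mul_one]
  rw [map_norm σ hn hn11 hι hE, hR.nrm, h2, card_scalars_inf, hι] at h1
  have hv := card_torus σ (hE.trans hι.symm)
  rw [hι] at hv
  rw [← h1, ← hv]
  ring

end Finite

/-- a group containing the torus is irreducible -/
theorem irreducible [FiniteDimensional F E] (hE : Module.finrank F E = Fintype.card ι)
    (hp : (Module.finrank F E).Prime) {M : Subgroup (GL ι F)}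
    {u : Eˣ} (hu : uG σ u ∈ M) (hu' : (u : E) ∉ Set.range (algebraMap F E)) : ActsIrreducibly (matrixSet M) := by
  intro W hW
  by_cases h0 : W = ⊥
  · exact Or.inl h0
  · right
    obtain ⟨w, hw, hw0⟩ := Submodule.exists_mem_ne_zero_of_ne_bot h0
    -- the elements mapping `W` to itself
    let A : Subalgebra F E :=
      { carrier := {k | ∀ v ∈ W, σ k *ᵥ v ∈ W}
        mul_mem' := fun {a b} ha hb v hv => by rw [map_mul, ← mulVec_mulVec]; exact ha _ (hb v hv)
        add_mem' := fun {a b} ha hb v hv => by rw [map_add, add_mulVec]; exact W.add_mem (ha v hv) (hb v hv)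
        algebraMap_mem' := fun c v hv => by
          rw [AlgHom.commutes, Algebra.algebraMap_eq_smul_one, smul_mulVec, one_mulVec]
          exact W.smul_mem c hv }
    have huA : (u : E) ∈ A := by
      intro v hv
      have h1 := hW _ ⟨uG σ u, hu, rfl⟩
      have h2 : Matrix.toLin' ((uG σ u : GL ι F) : Matrix ι ι F) v ∈ W := h1 ⟨v, hv, rfl⟩
      rwa [Matrix.toLin'_apply, coe_uG] at h2
    have hA : A = ⊤ := by
      rw [eq_top_iff, ← adjoin_top hp hu', Algebra.adjoin_le_iff, Set.singleton_subset_iff]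
      exact huA
    rw [eq_top_iff]
    intro v _
    obtain ⟨k, hk⟩ := exists_ev σ hE hw0 v
    rw [← hk]
    have : k ∈ A := by rw [hA]; trivial
    exact this w hw

/-- an element of prime order in the image of the torus -/
theorem exists_elem [Fintype F] {s : ℕ} (hs : s.Prime) (hd : s ∣ Nat.card ((tor σ).map (pr ι F))) :
    ∃ u : Eˣ, uG σ u ∈ specialLinear ι F ∧ orderOf (pr ι F (uG σ u)) = s := by
  have : Fact s.Prime := ⟨hs⟩
  obtain ⟨⟨x, hx⟩, hxs⟩ := exists_prime_orderOf_dvd_card' (G := (tor σ).map (pr ι F)) s hd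
  obtain ⟨_, ⟨⟨u, rfl⟩, huS⟩, rfl⟩ := hx
  refine ⟨u, huS, ?_⟩
  rw [← hxs, ← Subgroup.orderOf_coe]

/-- case 1: monomial groups -/
theorem not_monomial [FiniteDimensional F E] {s n : ℕ} (hs : s.Prime) (hsn : n < s) {M : Subgroup (GL ι F)} {u : Eˣ}
    (hu : uG σ u ∈ M) (hus : orderOf (pr ι F (uG σ u)) = s) (hn : 0 < n) {D : Fin n → Submodule F (ι → F)}
    (hD : IsMDecomposition 1 D) (hMD : M ≤ decompositionStabilizer D) : False := by
  obtain ⟨τ, hτ⟩ := hMD hu
  have hpow : ∀ m : ℕ, ∀ i, (D i).map (Matrix.toLin' (σ ((u : E) ^ m))) = D ((τ ^ m) i) := by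
    intro m
    induction m with
    | zero =>
      intro i
      rw [pow_zero, map_one, Matrix.toLin'_one, Submodule.map_id]
      rfl
    | succ m ih =>
      intro i
      rw [pow_succ', map_mul, Matrix.toLin'_mul, Submodule.map_comp, ih]
      have := hτ ((τ ^ m) i)
      rw [coe_uG] at this
      rw [this, pow_succ', Equiv.Perm.mul_apply]
  have hfac := hpow n.factorial ⟨0, hn⟩
  have h1 : τ ^ n.factorial = 1 := by
    have h2 : Nat.card (Equiv.Perm (Fin n)) = n.factorial := by
      rw [Nat.card_eq_fintype_card, Fintype.card_perm, Fintype.card_fin]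
    rw [← h2]
    exact pow_card_eq_one'
  rw [h1, Equiv.Perm.one_apply] at hfac
  -- an eigenvector
  obtain ⟨v, hv, hv0, hspan⟩ : ∃ v ∈ D ⟨0, hn⟩, v ≠ 0 ∧ ∀ w ∈ D ⟨0, hn⟩, ∃ c : F, c • v = w := by
    have h2 := hD.finrank_eq ⟨0, hn⟩
    obtain ⟨⟨v, hv⟩, hv0, h3⟩ := finrank_eq_one_iff'.1 h2
    refine ⟨v, hv, fun h => hv0 (Subtype.ext h), fun w hw => ?_⟩
    obtain ⟨c, hc⟩ := h3 ⟨w, hw⟩
    exact ⟨c, congrArg Subtype.val hc⟩
  have h2 : σ ((u : E) ^ n.factorial) *ᵥ v ∈ D ⟨0, hn⟩ := by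
    have h3 : Matrix.toLin' (σ ((u : E) ^ n.factorial)) v ∈ (D ⟨0, hn⟩).map (Matrix.toLin' (σ ((u : E) ^ n.factorial))) :=
      ⟨v, hv, rfl⟩
    rw [hfac, Matrix.toLin'_apply] at h3
    exact h3
  obtain ⟨c, hc⟩ := hspan _ h2
  have h3 : (u : E) ^ n.factorial = algebraMap F E c := by
    apply ev_injective σ hv0
    rw [ev_apply, ev_apply, ← hc, AlgHom.commutes, Algebra.algebraMap_eq_smul_one, smul_mulVec, one_mulVec]
  have h4 : pr ι F (uG σ u) ^ n.factorial = 1 := by
    by_contra hne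
    rw [← map_pow, ← map_pow] at hne
    have := pr_uG_ne_one σ hne
    rw [Units.val_pow_eq_pow_val] at this
    exact this ⟨c, h3.symm⟩
  have h5 := orderOf_dvd_of_pow_eq_one h4
  rw [hus] at h5
  have h6 := (hs.dvd_factorial).1 h5
  omega

/-- case 3: extraspecial groups -/
theorem not_extraspecial [Finite F] [FiniteDimensional F E] (hE : Module.finrank F E = Fintype.card ι)
    (hp : (Module.finrank F E).Prime) {s n : ℕ} (hn : n.Prime)
    (hs : s.Prime) (hsn : 2 * n + 1 ≤ s) {M : Subgroup (GL ι F)} {u : Eˣ}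
    (hu : uG σ u ∈ M) (hus : orderOf (pr ι F (uG σ u)) = s) {R : Subgroup (GL ι F)}
    (hR : ∀ m ∈ M, ∀ x ∈ R, m * x * m⁻¹ ∈ R) (habs : ActsAbsolutelyIrreducibly (matrixSet R))
    (hc : Nat.card R = n ^ 3) (hZ : Nat.card (Subgroup.center R) = n) (hexp : ∀ x ∈ R, x ^ n = 1) : False := by
  classical
  have : Nonempty ι := by
    rw [← Fintype.card_pos_iff, ← hE]
    exact hp.pos
  have : Fact s.Prime := ⟨hs⟩
  have hfinE : Finite E := Module.finite_of_finite F
  have hu1 : pr ι F (uG σ u) ≠ 1 := by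
    intro h
    rw [h, orderOf_one] at hus
    exact hs.one_lt.ne hus
  have hu' := pr_uG_ne_one σ hu1
  -- the permutation of `R`
  let a : Equiv.Perm R :=
    { toFun := fun r => ⟨uG σ u * r * (uG σ u)⁻¹, hR _ hu r r.2⟩
      invFun := fun r => ⟨(uG σ u)⁻¹ * r * uG σ u, by
        have := hR _ (M.inv_mem hu) r r.2
        rwa [inv_inv] at this⟩
      left_inv := fun r => Subtype.ext (by simp only; group)
      right_inv := fun r => Subtype.ext (by simp only; group) }
  have ha : ∀ r : R, ((a r : R) : GL ι F) = uG σ u * r * (uG σ u)⁻¹ := fun r => rfl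
  have han : ∀ (m : ℕ) (r : R), (((a ^ m) r : R) : GL ι F) = (uG σ u) ^ m * r * ((uG σ u) ^ m)⁻¹ := by
    intro m
    induction m with
    | zero => intro r; simp
    | succ m ih =>
      intro r
      rw [pow_succ, Equiv.Perm.mul_apply, ih, ha, pow_succ]
      group
  have has : a ^ s = 1 := by
    ext1 r
    apply Subtype.ext
    rw [han]
    have h1 : (uG σ u) ^ s ∈ scalars ι F := by
      rw [← pr_eq_one, map_pow, ← hus]
      exact pow_orderOf_eq_one _
    rw [comm_of_scalar h1]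
    simp
  have hA : IsPGroup s (zpowers a) := by
    rcases (Nat.dvd_prime hs).1 (orderOf_dvd_of_pow_eq_one has) with h | h
    · apply IsPGroup.of_card (n := 0)
      rw [Nat.card_zpowers, h, pow_zero]
    · apply IsPGroup.of_card (n := 1)
      rw [Nat.card_zpowers, h, pow_one]
  have hmod := hA.card_modEq_card_fixedPoints R
  -- the fixed points
  let B : Subgroup (GL ι F) := R ⊓ centralizer {uG σ u}
  have hB : ∀ g, g ∈ B ↔ g ∈ R ∧ g * uG σ u = uG σ u * g := by
    intro g
    rw [mem_inf, mem_centralizer_singleton_iff]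
  have hfix : Nat.card (MulAction.fixedPoints (zpowers a) R) = Nat.card B := by
    apply Nat.card_congr
    refine ⟨fun r => ⟨r.1, (hB _).2 ⟨r.1.2, ?_⟩⟩, fun b => ⟨⟨b.1, ((hB _).1 b.2).1⟩, ?_⟩, fun r => ?_, fun b => ?_⟩
    · have h1 := r.2 ⟨a, mem_zpowers a⟩
      have h2 : uG σ u * (r.1 : GL ι F) * (uG σ u)⁻¹ = r.1 := congrArg Subtype.val h1
      calc (r.1 : GL ι F) * uG σ u = (uG σ u * (r.1 : GL ι F) * (uG σ u)⁻¹) * uG σ u := by rw [h2]
        _ = uG σ u * r.1 := by group
    · have h3 : a ⟨b.1, ((hB _).1 b.2).1⟩ = ⟨b.1, ((hB _).1 b.2).1⟩ := by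
        apply Subtype.ext
        rw [ha]
        have h4 := ((hB _).1 b.2).2
        change uG σ u * (b : GL ι F) * (uG σ u)⁻¹ = b
        rw [← h4]
        group
      rintro ⟨_, m, rfl⟩
      exact Equiv.Perm.zpow_apply_eq_self_of_apply_eq_self h3 m
    · rfl
    · rfl
  rw [hfix, hc] at hmod
  -- `|B| ≤ n`
  have hBle : Nat.card B ≤ n := by
    have h1 : B ≤ (rootsOfUnity n E).map (uG σ) := by
      intro g hg
      obtain ⟨hgR, hgc⟩ := (hB g).1 hg
      have h2 : (g : Matrix ι ι F) * σ (u : E) = σ (u : E) * g := by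
        have := congrArg Units.val hgc
        rw [Units.val_mul, Units.val_mul, coe_uG] at this
        exact this
      obtain ⟨k, hk⟩ := mem_of_commute_single σ hE hp hu' h2
      obtain ⟨w, hw⟩ := mem_range_uG σ hk
      refine ⟨w, ?_, hw⟩
      have h3 := hexp g hgR
      rw [← hw, ← map_pow] at h3
      have h4 : w ^ n = 1 := uG_injective σ (by rw [h3, map_one])
      exact (mem_rootsOfUnity n w).2 h4
    have hn0 : NeZero n := ⟨hn.ne_zero⟩
    calc Nat.card B ≤ Nat.card ((rootsOfUnity n E).map (uG σ)) := Subgroup.card_le_of_le h1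
      _ = Nat.card (rootsOfUnity n E) :=
        (Nat.card_congr ((rootsOfUnity n E).equivMapOfInjective _ (uG_injective σ)).toEquiv).symm
      _ ≤ n := card_rootsOfUnity E n
  have hBge : n ≤ Nat.card B := by
    rw [← hZ]
    have h1 : (Subgroup.center R).map R.subtype ≤ B := by
      rintro _ ⟨z, hz, rfl⟩
      rw [hB]
      refine ⟨z.2, ?_⟩
      have h2 : (z : GL ι F) ∈ scalars ι F := by
        apply mem_scalars_of_comm habs
        intro r hr
        have := (mem_center_iff.1 hz) ⟨r, hr⟩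
        exact (congrArg Subtype.val this).symm
      exact comm_of_scalar h2 _
    calc Nat.card (Subgroup.center R) = Nat.card ((Subgroup.center R).map R.subtype) :=
        Nat.card_congr ((Subgroup.center R).equivMapOfInjective R.subtype R.subtype_injective).toEquiv
      _ ≤ Nat.card B := Subgroup.card_le_of_le h1
  have hBn : Nat.card B = n := le_antisymm hBle hBge
  rw [hBn] at hmod
  have hn2 := hn.two_le
  have h5 : s ∣ n ^ 3 - n := (Nat.modEq_iff_dvd' (Nat.le_self_pow (by norm_num) n)).1 hmod.symm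
  obtain ⟨m, rfl⟩ : ∃ m, n = m + 1 := ⟨n - 1, by omega⟩
  have h6 : (m + 1) ^ 3 - (m + 1) = (m + 1) * (m * (m + 2)) := by
    have : (m + 1) ^ 3 = (m + 1) * (m * (m + 2)) + (m + 1) := by ring
    omega
  rw [h6] at h5
  rcases hs.dvd_mul.1 h5 with h7 | h7
  · have := Nat.le_of_dvd (by omega) h7
    omega
  · rcases hs.dvd_mul.1 h7 with h8 | h8
    · have := Nat.le_of_dvd (by omega) h8
      omega
    · have := Nat.le_of_dvd (by omega) h8
      omega

end Cfsg.Agent.H872.Sing
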