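import Cfsg.Prelude.Def_GeometricClasses

/-!
Basic description of `Geo.tensorProductSubgroup`: the algebra equivalence `emb e P` and membership.
-/

set_option autoImplicit false

namespace Cfsg.Agent.H872

open Matrix Cfsg
open scoped Kronecker

variable {ι : Type} [Fintype ι] [DecidableEq ι] {F : Type*} [Field F]

/-- Transport along a bijection of index sets followed by conjugation with `P`. -/
def emb {κ : Type} [Fintype κ] [DecidableEq κ] (e : ι ≃ κ) (P : GL ι F) :
    Matrix κ κ F ≃ₐ[F] Matrix ι ι F :=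
  (Matrix.reindexAlgEquiv F F e.symm).trans
    { toFun := fun x => (P : Matrix ι ι F) * x * ((P⁻¹ : GL ι F) : Matrix ι ι F)
      invFun := fun x => ((P⁻¹ : GL ι F) : Matrix ι ι F) * x * (P : Matrix ι ι F)
      left_inv := fun x => by
        simp [mul_assoc]
      right_inv := fun x => by
        simp [mul_assoc]
      map_mul' := fun x y => by
        have h : ((P⁻¹ : GL ι F) : Matrix ι ι F) * (P : Matrix ι ι F) = 1 := by
          rw [← Units.val_mul, inv_mul_cancel, Units.val_one]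
        calc (P : Matrix ι ι F) * (x * y) * ((P⁻¹ : GL ι F) : Matrix ι ι F)
            = (P : Matrix ι ι F) * (x * 1 * y) * ((P⁻¹ : GL ι F) : Matrix ι ι F) := by rw [mul_one]
          _ = _ := by rw [← h]; simp only [mul_assoc]
      map_add' := fun x y => by rw [mul_add, add_mul]
      commutes' := fun c => by
        rw [← Algebra.commutes, mul_assoc, ← Units.val_mul, mul_inv_cancel, Units.val_one,
          mul_one] }

theorem emb_apply {κ : Type} [Fintype κ] [DecidableEq κ] (e : ι ≃ κ) (P : GL ι F)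
    (x : Matrix κ κ F) : emb e P x =
      (P : Matrix ι ι F) * (x.submatrix e e) * ((P⁻¹ : GL ι F) : Matrix ι ι F) := rfl

/-- `emb` on units. -/
noncomputable def embGL {κ : Type} [Fintype κ] [DecidableEq κ] (e : ι ≃ κ) (P : GL ι F) :
    GL κ F ≃* GL ι F := Units.mapEquiv (emb e P).toMulEquiv

theorem coe_embGL {κ : Type} [Fintype κ] [DecidableEq κ] (e : ι ≃ κ) (P : GL ι F)
    (g : GL κ F) : (embGL e P g : Matrix ι ι F) = emb e P (g : Matrix κ κ F) := rfl

theorem coe_embGL_inv {κ : Type} [Fintype κ] [DecidableEq κ] (e : ι ≃ κ) (P : GL ι F)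
    (g : GL κ F) : (((embGL e P g)⁻¹ : GL ι F) : Matrix ι ι F) =
      emb e P ((g⁻¹ : GL κ F) : Matrix κ κ F) := rfl

theorem tensorProductSubgroup_eq (n₁ n₂ : ℕ) (e : ι ≃ Fin n₁ × Fin n₂) (P : GL ι F) :
    Geo.tensorProductSubgroup n₁ n₂ e P =
      (Geo.kroneckerSubgroup n₁ n₂ F).map (embGL e P).toMonoidHom := by
  unfold Geo.tensorProductSubgroup
  rw [Subgroup.map_map]
  congr 1
  refine MonoidHom.ext fun g => Units.ext ?_
  rfl

theorem mem_tensorProductSubgroup {n₁ n₂ : ℕ} {e : ι ≃ Fin n₁ × Fin n₂} {P : GL ι F}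
    {g : GL ι F} : g ∈ Geo.tensorProductSubgroup n₁ n₂ e P ↔
      ∃ (a : GL (Fin n₁) F) (b : GL (Fin n₂) F), (g : Matrix ι ι F) =
        emb e P ((a : Matrix (Fin n₁) (Fin n₁) F) ⊗ₖ (b : Matrix (Fin n₂) (Fin n₂) F)) := by
  rw [tensorProductSubgroup_eq]
  constructor
  · rintro ⟨h, ⟨a, b, hab⟩, rfl⟩
    exact ⟨a, b, by rw [← hab]; rfl⟩
  · rintro ⟨a, b, hab⟩
    refine ⟨(embGL e P).symm g, ⟨a, b, ?_⟩, MulEquiv.apply_symm_apply _ _⟩
    apply (emb e P).injective
    rw [← coe_embGL, MulEquiv.apply_symm_apply, hab]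

theorem det_emb {κ : Type} [Fintype κ] [DecidableEq κ] (e : ι ≃ κ) (P : GL ι F)
    (x : Matrix κ κ F) : (emb e P x).det = x.det := by
  rw [emb_apply, det_mul, det_mul, mul_comm, ← mul_assoc, ← det_mul, ← Units.val_mul,
    inv_mul_cancel, Units.val_one, det_one, one_mul, det_submatrix_equiv_self]

end Cfsg.Agent.H872
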